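/-
Transvections of a subgroup of `GL₃(F)` as pairs of coordinate vectors.
Main results:
* `T` : `(e, χ)` is the centre and axis of a transvection of `G`
* `T.move` : conjugation of one transvection by another
* `Sys` : a group generated by transvections without fixed points on either side
* `conjHom`, `dualHom` : changes of coordinates and duality
-/
import Cfsg.Agent.Lib.Mitchell.Defs

set_option autoImplicit false
set_option linter.unusedSectionVars false

namespace Cfsg.Agent.Mitchell.Transv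

open Matrix Cfsg.Agent.SL3Max Cfsg.Agent.Transvect

variable {F : Type*} [Field F]

/-- The functional with coordinates `χ`. -/
def dot (χ : V3 F) : D3 F where
  toFun x := χ ⬝ᵥ x
  map_add' := dotProduct_add χ
  map_smul' c x := dotProduct_smul c χ x

@[simp] lemma dot_apply (χ x : V3 F) : dot χ x = χ ⬝ᵥ x := rfl

lemma exists_dot (φ : D3 F) : ∃ χ : V3 F, φ = dot χ :=
  ⟨fun j => φ (Pi.single j 1), LinearMap.ext fun x => by
    conv_lhs => rw [pi_eq_sum_univ' x, map_sum]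
    simp [dotProduct, mul_comm]⟩

/-- The transvection with centre `e` and axis coordinates `χ`. -/
noncomputable def tr (e χ : V3 F) : GL (Fin 3) F := tv e (dot χ)

lemma tr_apply {e χ : V3 F} (h : χ ⬝ᵥ e = 0) (x : V3 F) :
    app (tr e χ) x = x + (χ ⬝ᵥ x) • e := tv_apply (φ := dot χ) h x

lemma tr_val {e χ : V3 F} (h : χ ⬝ᵥ e = 0) :
    (tr e χ : Matrix (Fin 3) (Fin 3) F) = 1 + vecMulVec e χ := by
  refine Matrix.ext_of_mulVec_single fun j => ?_
  rw [← app_apply, tr_apply h, Matrix.add_mulVec, Matrix.one_mulVec, vecMulVec_mulVec]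
  ext i
  simp [mul_comm]

lemma tr_ext {e χ e' χ' : V3 F} (h : χ ⬝ᵥ e = 0) (h' : χ' ⬝ᵥ e' = 0)
    (H : ∀ x, (χ ⬝ᵥ x) • e = (χ' ⬝ᵥ x) • e') : tr e χ = tr e' χ' :=
  gl_ext fun x => by rw [tr_apply h, tr_apply h', H]

/-- A transvection of `G`, or the trivial pair. -/
def T (G : Subgroup (GL (Fin 3) F)) (e χ : V3 F) : Prop := χ ⬝ᵥ e = 0 ∧ tr e χ ∈ G

variable {G : Subgroup (GL (Fin 3) F)} {e e' χ χ' d ψ : V3 F}

lemma T.zero_right (e : V3 F) : T G e 0 := by
  refine ⟨zero_dotProduct e, ?_⟩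
  rw [show tr e (0 : V3 F) = 1 from gl_ext fun x => by rw [tr_apply (zero_dotProduct e)]; simp]
  exact one_mem G

lemma T.add (h : T G e χ) (h' : T G e χ') : T G e (χ + χ') := by
  have h0 : (χ + χ') ⬝ᵥ e = 0 := by rw [add_dotProduct, h.1, h'.1, add_zero]
  refine ⟨h0, ?_⟩
  convert mul_mem h.2 h'.2 using 1
  refine gl_ext fun x => ?_
  rw [tr_apply h0, map_mul, LinearEquiv.mul_apply, tr_apply h'.1, tr_apply h.1, dotProduct_add,
    dotProduct_smul, h.1, smul_zero, add_zero, add_dotProduct]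
  module

lemma T.addL (h : T G e χ) (h' : T G e' χ) : T G (e + e') χ := by
  have h0 : χ ⬝ᵥ (e + e') = 0 := by rw [dotProduct_add, h.1, h'.1, add_zero]
  refine ⟨h0, ?_⟩
  convert mul_mem h.2 h'.2 using 1
  refine gl_ext fun x => ?_
  rw [tr_apply h0, map_mul, LinearEquiv.mul_apply, tr_apply h'.1, tr_apply h.1, dotProduct_add,
    dotProduct_smul, h'.1, smul_zero, add_zero]
  module

lemma T.neg (h : T G e χ) : T G e (-χ) := by
  have h0 : (-χ) ⬝ᵥ e = 0 := by rw [neg_dotProduct, h.1, neg_zero]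
  refine ⟨h0, ?_⟩
  convert inv_mem h.2 using 1
  refine (inv_eq_of_mul_eq_one_right (gl_ext fun x => ?_)).symm
  rw [map_mul, LinearEquiv.mul_apply, tr_apply h0, tr_apply h.1, map_one, LinearEquiv.coe_one, id,
    dotProduct_add, dotProduct_smul, h.1, smul_zero, add_zero, neg_dotProduct]
  module

lemma T.shift {a : F} (h : T G (a • e) χ) (h0 : χ ⬝ᵥ e = 0) : T G e (a • χ) := by
  have h1 : (a • χ) ⬝ᵥ e = 0 := by rw [smul_dotProduct, h0, smul_zero]
  refine ⟨h1, ?_⟩
  rw [tr_ext h1 h.1 fun x => by rw [smul_dotProduct, smul_eq_mul, smul_smul, mul_comm]]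
  exact h.2

lemma T.shift' {a : F} (h : T G e (a • χ)) (h0 : χ ⬝ᵥ e = 0) : T G (a • e) χ := by
  have h1 : χ ⬝ᵥ (a • e) = 0 := by rw [dotProduct_smul, h0, smul_zero]
  refine ⟨h1, ?_⟩
  rw [tr_ext h1 h.1 fun x => by rw [smul_dotProduct, smul_eq_mul, smul_smul, mul_comm]]
  exact h.2

/-- The same transvection in other scalars. -/
lemma T.rescale (h : T G e χ) {a : F} (ha : a ≠ 0) : T G (a • e) (a⁻¹ • χ) :=
  T.shift' (by rw [smul_smul, mul_inv_cancel₀ ha, one_smul]; exact h)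
    (by rw [smul_dotProduct, h.1, smul_zero])

/-- Conjugation by an element of `G`. -/
lemma T.conj {g : GL (Fin 3) F} (hg : g ∈ G) (h : T G e χ) :
    T G ((g : Matrix (Fin 3) (Fin 3) F) *ᵥ e)
      (χ ᵥ* ((g⁻¹ : GL (Fin 3) F) : Matrix (Fin 3) (Fin 3) F)) := by
  have h0 : (χ ᵥ* ((g⁻¹ : GL (Fin 3) F) : Matrix (Fin 3) (Fin 3) F)) ⬝ᵥ
      ((g : Matrix (Fin 3) (Fin 3) F) *ᵥ e) = 0 := by
    rw [← dotProduct_mulVec, ← app_apply, ← app_apply, app_inv_app, h.1]
  refine ⟨h0, ?_⟩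
  convert mul_mem (mul_mem hg h.2) (inv_mem hg) using 1
  refine gl_ext fun x => ?_
  rw [tr_apply h0, map_mul, map_mul, LinearEquiv.mul_apply, LinearEquiv.mul_apply, tr_apply h.1,
    map_add, map_smul, app_app_inv, ← app_apply, app_apply g⁻¹, ← dotProduct_mulVec]

/-- Conjugation by a transvection of `G`. -/
lemma T.move (hd : T G d ψ) (h : T G e χ) :
    T G (e + (ψ ⬝ᵥ e) • d) (χ - (χ ⬝ᵥ d) • ψ) := by
  have h0 : (χ - (χ ⬝ᵥ d) • ψ) ⬝ᵥ (e + (ψ ⬝ᵥ e) • d) = 0 := by
    simp only [sub_dotProduct, dotProduct_add, smul_dotProduct, dotProduct_smul, h.1, hd.1,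
      smul_eq_mul]
    ring
  refine ⟨h0, ?_⟩
  convert mul_mem (mul_mem hd.2 h.2) (inv_mem hd.2) using 1
  refine (eq_mul_inv_of_mul_eq (gl_ext fun x => ?_))
  simp only [map_mul, LinearEquiv.mul_apply, tr_apply h0, tr_apply h.1, tr_apply hd.1,
    sub_dotProduct, dotProduct_add, smul_dotProduct, dotProduct_smul, hd.1, smul_eq_mul]
  module

/-- A centre on the axis of another transvection. -/
lemma T.comm_left (hd : T G d ψ) (h : T G e χ) (h0 : χ ⬝ᵥ d = 0) : T G ((ψ ⬝ᵥ e) • d) χ := by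
  have h1 := T.move hd h
  rw [h0, zero_smul, sub_zero] at h1
  have h2 := T.addL h1 (T.shift' (a := -1) (by rw [neg_one_smul]; exact h.neg) h.1)
  convert h2 using 1
  module

/-- An axis through the centre of another transvection. -/
lemma T.comm_right (hd : T G d ψ) (h : T G e χ) (h0 : ψ ⬝ᵥ e = 0) : T G e ((χ ⬝ᵥ d) • ψ) := by
  have h1 := T.move hd h
  rw [h0, zero_smul, add_zero] at h1
  have h2 := (T.add h1 h.neg).neg
  convert h2 using 1
  module

/-- A group generated by transvections, without common fixed points or fixed functionals. -/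
structure Sys (G : Subgroup (GL (Fin 3) F)) : Prop where
  axis : ∀ v : V3 F, v ≠ 0 → ∃ e χ, e ≠ 0 ∧ T G e χ ∧ χ ⬝ᵥ v ≠ 0
  centre : ∀ ω : V3 F, ω ≠ 0 → ∃ e χ, χ ≠ 0 ∧ T G e χ ∧ ω ⬝ᵥ e ≠ 0
  gen : G = Subgroup.closure {g | ∃ e χ, T G e χ ∧ g = tr e χ}

lemma closure_tvSet (hgen : G = Subgroup.closure (tvSet G)) :
    G = Subgroup.closure {g | ∃ e χ, T G e χ ∧ g = tr e χ} := by
  refine le_antisymm ?_ ((Subgroup.closure_le G).2 ?_)
  · conv_lhs => rw [hgen]
    refine Subgroup.closure_mono ?_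
    rintro g ⟨hg, c, φ, -, -, hφc, rfl⟩
    obtain ⟨χ, rfl⟩ := exists_dot φ
    exact ⟨c, χ, ⟨hφc, hg⟩, rfl⟩
  · rintro g ⟨e, χ, h, rfl⟩
    exact h.2

theorem sys_of_irred (hirr : Irred G) (hgen : G = Subgroup.closure (tvSet G)) : Sys G := by
  have hS := closure_tvSet hgen
  refine ⟨fun v hv => ?_, fun ω hω => ?_, hS⟩
  · by_contra hno
    push Not at hno
    have hfix : ∀ g ∈ G, app g v = v := by
      intro g hg
      rw [hS] at hg
      induction hg using Subgroup.closure_induction with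
      | mem g hg =>
        obtain ⟨e, χ, h, rfl⟩ := hg
        rw [tr_apply h.1]
        by_cases he : e = 0
        · rw [he, smul_zero, add_zero]
        · rw [hno e χ he h, zero_smul, add_zero]
      | one => simp
      | mul a b _ _ ha hb => rw [map_mul, LinearEquiv.mul_apply, hb, ha]
      | inv a _ ha => conv_lhs => rw [← ha, app_inv_app]
    rcases hirr (F ∙ v) (fun g hg w hw => by
        obtain ⟨a, rfl⟩ := Submodule.mem_span_singleton.1 hw
        rw [map_smul, hfix g hg]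
        exact Submodule.smul_mem _ _ (Submodule.mem_span_singleton_self v)) with h | h
    · exact hv (Submodule.span_singleton_eq_bot.1 h)
    · have h1 := finrank_span_singleton (K := F) hv
      rw [h, finrank_top, Module.finrank_fin_fun] at h1
      omega
  · by_contra hno
    push Not at hno
    have hfix : ∀ g ∈ G, ∀ x, ω ⬝ᵥ app g x = ω ⬝ᵥ x := by
      intro g hg
      rw [hS] at hg
      induction hg using Subgroup.closure_induction with
      | mem g hg =>
        obtain ⟨e, χ, h, rfl⟩ := hg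
        intro x
        rw [tr_apply h.1, dotProduct_add, dotProduct_smul]
        by_cases hχ : χ = 0
        · rw [hχ, zero_dotProduct, zero_smul, add_zero]
        · rw [hno e χ hχ h, smul_zero, add_zero]
      | one => simp
      | mul a b _ _ ha hb => intro x; rw [map_mul, LinearEquiv.mul_apply, ha, hb]
      | inv a _ ha => intro x; rw [← ha, app_app_inv]
    rcases hirr (LinearMap.ker (dot ω)) (fun g hg w hw => by
        rw [LinearMap.mem_ker, dot_apply, hfix g hg]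
        simpa using hw) with h | h
    · have h1 := LinearMap.finrank_range_add_finrank_ker (dot ω)
      rw [h, finrank_bot, Module.finrank_fin_fun] at h1
      have h2 := Submodule.finrank_le (LinearMap.range (dot ω))
      rw [Module.finrank_self] at h2
      omega
    · refine hω (funext fun i => ?_)
      have h1 : (Pi.single i 1 : V3 F) ∈ LinearMap.ker (dot ω) := h ▸ Submodule.mem_top
      simpa using h1

/-! ### Changes of coordinates and duality -/

/-- The group in the coordinates given by the columns of `P`. -/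
def conjHom (P : GL (Fin 3) F) : GL (Fin 3) F →* GL (Fin 3) F := (MulAut.conj P⁻¹).toMonoidHom

lemma tr_conj {g : GL (Fin 3) F} (h : χ ⬝ᵥ e = 0) :
    g * tr e χ * g⁻¹ = tr ((g : Matrix (Fin 3) (Fin 3) F) *ᵥ e)
      (χ ᵥ* ((g⁻¹ : GL (Fin 3) F) : Matrix (Fin 3) (Fin 3) F)) := by
  have h0 : (χ ᵥ* ((g⁻¹ : GL (Fin 3) F) : Matrix (Fin 3) (Fin 3) F)) ⬝ᵥ
      ((g : Matrix (Fin 3) (Fin 3) F) *ᵥ e) = 0 := by
    rw [← dotProduct_mulVec, ← app_apply, ← app_apply, app_inv_app, h]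
  refine gl_ext fun x => ?_
  rw [tr_apply h0, map_mul, map_mul, LinearEquiv.mul_apply, LinearEquiv.mul_apply, tr_apply h,
    map_add, map_smul, app_app_inv, ← app_apply, app_apply g⁻¹, ← dotProduct_mulVec]

lemma T_conjHom {P : GL (Fin 3) F} :
    T (G.map (conjHom P)) e χ ↔ T G ((P : Matrix (Fin 3) (Fin 3) F) *ᵥ e)
      (χ ᵥ* ((P⁻¹ : GL (Fin 3) F) : Matrix (Fin 3) (Fin 3) F)) := by
  have hdot : (χ ᵥ* ((P⁻¹ : GL (Fin 3) F) : Matrix (Fin 3) (Fin 3) F)) ⬝ᵥ
      ((P : Matrix (Fin 3) (Fin 3) F) *ᵥ e) = χ ⬝ᵥ e := by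
    rw [← dotProduct_mulVec, ← app_apply, ← app_apply, app_inv_app]
  constructor
  · rintro ⟨h, g, hg, hge⟩
    refine ⟨hdot.trans h, ?_⟩
    rw [← tr_conj h, ← hge]
    simpa [conjHom, mul_assoc] using hg
  · rintro ⟨h, hg⟩
    have h' := hdot.symm.trans h
    refine ⟨h', _, hg, ?_⟩
    rw [← tr_conj h']
    simp [conjHom, mul_assoc]

/-- Inverse transpose. -/
def dualHom : GL (Fin 3) F →* GL (Fin 3) F where
  toFun g := ⟨((g⁻¹ : GL (Fin 3) F) : Matrix (Fin 3) (Fin 3) F)ᵀ, (g : Matrix (Fin 3) (Fin 3) F)ᵀ,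
    by rw [← Matrix.transpose_mul, ← Units.val_mul, mul_inv_cancel, Units.val_one, Matrix.transpose_one],
    by rw [← Matrix.transpose_mul, ← Units.val_mul, inv_mul_cancel, Units.val_one, Matrix.transpose_one]⟩
  map_one' := by ext1; simp
  map_mul' g h := by ext1; simp [Matrix.transpose_mul]

lemma dualHom_dualHom (g : GL (Fin 3) F) : dualHom (dualHom g) = g := Units.ext (transpose_transpose _)

lemma dualHom_tr (h : χ ⬝ᵥ e = 0) : dualHom (tr e χ) = tr χ (-e) := by
  have h' : (-e) ⬝ᵥ χ = 0 := by rw [neg_dotProduct, dotProduct_comm, h, neg_zero]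
  have hn : (-χ) ⬝ᵥ e = 0 := by rw [neg_dotProduct, h, neg_zero]
  have hinv : (tr e χ)⁻¹ = tr e (-χ) := inv_eq_of_mul_eq_one_right (gl_ext fun x => by
    rw [map_mul, LinearEquiv.mul_apply, tr_apply hn, tr_apply h, map_one, LinearEquiv.coe_one, id,
      dotProduct_add, dotProduct_smul, h, smul_zero, add_zero, neg_dotProduct]
    module)
  refine Units.ext ?_
  show ((tr e χ)⁻¹ : GL (Fin 3) F).val.transpose = _
  rw [hinv, tr_val hn, tr_val h', transpose_add, transpose_one, transpose_vecMulVec]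
  ext i j
  simp [vecMulVec_apply, mul_comm]

lemma T_dualHom : T (G.map dualHom) χ e ↔ T G e χ := by
  constructor
  · rintro ⟨h, g, hg, hge⟩
    have h' : χ ⬝ᵥ e = 0 := by rwa [dotProduct_comm]
    have hn : (-χ) ⬝ᵥ e = 0 := by rw [neg_dotProduct, h', neg_zero]
    have hgg : g = tr e (-χ) := by
      rw [← dualHom_dualHom g, hge, dualHom_tr h]
    have := T.neg (G := G) (e := e) (χ := -χ) ⟨hn, hgg ▸ hg⟩
    rwa [neg_neg] at this
  · intro h
    have := T.neg (G := G.map dualHom) (e := χ) (χ := -e)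
      ⟨by rw [neg_dotProduct, dotProduct_comm, h.1, neg_zero], _, h.2, dualHom_tr h.1⟩
    rwa [neg_neg] at this

lemma Sys.map_conj (hS : Sys G) (P : GL (Fin 3) F) : Sys (G.map (conjHom P)) := by
  have happ : ∀ e' χ', T G e' χ' → T (G.map (conjHom P))
      (((P⁻¹ : GL (Fin 3) F) : Matrix (Fin 3) (Fin 3) F) *ᵥ e') (χ' ᵥ* (P : Matrix (Fin 3) (Fin 3) F)) := by
    intro e' χ' h
    rw [T_conjHom, mulVec_mulVec, vecMul_vecMul, ← Units.val_mul, mul_inv_cancel, Units.val_one,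
      one_mulVec, vecMul_one]
    exact h
  refine ⟨fun v hv => ?_, fun ω hω => ?_, ?_⟩
  · obtain ⟨e', χ', he, h, hne⟩ := hS.axis ((P : Matrix (Fin 3) (Fin 3) F) *ᵥ v)
      (by rw [← app_apply]; exact (app P).map_ne_zero_iff.2 hv)
    refine ⟨_, _, ?_, happ e' χ' h, by rwa [← dotProduct_mulVec]⟩
    rw [← app_apply]
    exact (app P⁻¹).map_ne_zero_iff.2 he
  · obtain ⟨e', χ', hχ, h, hne⟩ := hS.centre (ω ᵥ* ((P⁻¹ : GL (Fin 3) F) : Matrix (Fin 3) (Fin 3) F))
      (fun h0 => hω (by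
        have := congrArg (fun w => w ᵥ* (P : Matrix (Fin 3) (Fin 3) F)) h0
        simpa [vecMul_vecMul] using this))
    refine ⟨_, _, ?_, happ e' χ' h, by rwa [dotProduct_mulVec]⟩
    intro h0
    refine hχ ?_
    have := congrArg (fun w => w ᵥ* ((P⁻¹ : GL (Fin 3) F) : Matrix (Fin 3) (Fin 3) F)) h0
    simpa [vecMul_vecMul] using this
  · refine le_antisymm ?_ ((Subgroup.closure_le _).2 ?_)
    · conv_lhs => rw [hS.gen, MonoidHom.map_closure]
      refine Subgroup.closure_mono ?_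
      rintro _ ⟨g, ⟨e', χ', h, rfl⟩, rfl⟩
      refine ⟨_, _, happ e' χ' h, ?_⟩
      show P⁻¹ * tr e' χ' * P⁻¹⁻¹ = _
      rw [tr_conj h.1, inv_inv]
    · rintro g ⟨e', χ', h, rfl⟩
      exact h.2

lemma Sys.map_dual (hS : Sys G) : Sys (G.map dualHom) := by
  refine ⟨fun v hv => ?_, fun ω hω => ?_, ?_⟩
  · obtain ⟨e', χ', hχ, h, hne⟩ := hS.centre v hv
    exact ⟨χ', e', hχ, T_dualHom.2 h, by rwa [dotProduct_comm]⟩
  · obtain ⟨e', χ', he, h, hne⟩ := hS.axis ω hω
    exact ⟨χ', e', he, T_dualHom.2 h, by rwa [dotProduct_comm]⟩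
  · refine le_antisymm ?_ ((Subgroup.closure_le _).2 ?_)
    · conv_lhs => rw [hS.gen, MonoidHom.map_closure]
      refine Subgroup.closure_mono ?_
      rintro _ ⟨g, ⟨e', χ', h, rfl⟩, rfl⟩
      refine ⟨χ', -e', ?_, dualHom_tr h.1⟩
      exact (T_dualHom.2 h).neg
    · rintro g ⟨e', χ', h, rfl⟩
      exact h.2

end Cfsg.Agent.Mitchell.Transv
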