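/-
Two transvections in general position.
Main results:
* `pair` : the transvections reached from a pair form root groups over the field of the pair
* `exists_coords` : coordinates in which a pair is in standard position
* `exceptional` : a pair generating `SL₂(5)` comes with a better pair
-/
import Cfsg.Agent.Lib.Mitchell.Transv.Basic
import Cfsg.Agent.S0801

set_option autoImplicit false
set_option linter.unusedSectionVars false
set_option linter.style.haveILetI false

namespace Cfsg.Agent.Mitchell.Transv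

open Matrix Cfsg.Agent.SL3Max Cfsg.Agent.Transvect

variable {F : Type*} [Field F]

/-- The subfield generated by one element. -/
def fld (l : F) : Subfield F := Subfield.closure {l}

lemma mem_fld (l : F) : l ∈ fld l := Subfield.subset_closure rfl

lemma closure_fld_eq_top (l : F) :
    Subfield.closure ({⟨l, mem_fld l⟩} : Set (fld l)) = ⊤ := by
  refine eq_top_iff.2 fun x _ => ?_
  have h1 : (Subfield.closure ({⟨l, mem_fld l⟩} : Set (fld l))).map (fld l).subtype = fld l := by
    rw [RingHom.map_field_closure, Set.image_singleton]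
    rfl
  have h2 : (x : F) ∈ (Subfield.closure ({⟨l, mem_fld l⟩} : Set (fld l))).map (fld l).subtype := by
    rw [h1]; exact x.2
  obtain ⟨y, hy, hyx⟩ := h2
  rwa [← Subtype.ext (a1 := y) (a2 := x) hyx]

/-- The exceptional value, where two transvections generate `SL₂(5)`. -/
def Exc (l : F) : Prop := Nat.card (fld l) = 9 ∧ l ^ 2 = -1

/-- A group of matrices on a direct summand of rank two. -/
noncomputable def blockHom (B : Matrix (Fin 3) (Fin 2) F) (B' : Matrix (Fin 2) (Fin 3) F) (h : B' * B = 1)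
    (L : Subfield F) : Matrix.SpecialLinearGroup (Fin 2) L →* GL (Fin 3) F :=
  MonoidHom.toHomUnits
    { toFun := fun M => 1 + B * ((M : Matrix (Fin 2) (Fin 2) L).map L.subtype - 1) * B'
      map_one' := by simp
      map_mul' := fun M N => by
        rw [Matrix.SpecialLinearGroup.coe_mul, Matrix.map_mul]
        set X := (M : Matrix (Fin 2) (Fin 2) L).map L.subtype
        set Y := (N : Matrix (Fin 2) (Fin 2) L).map L.subtype
        have e : B * (X - 1) * B' * (B * (Y - 1) * B') = B * ((X - 1) * (Y - 1)) * B' := by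
          rw [show B * (X - 1) * B' * (B * (Y - 1) * B') = B * (X - 1) * (B' * B) * ((Y - 1) * B') by
            simp only [Matrix.mul_assoc], h, Matrix.mul_one]
          simp only [Matrix.mul_assoc]
        rw [Matrix.add_mul, Matrix.mul_add, Matrix.mul_add, Matrix.one_mul, Matrix.one_mul,
          Matrix.mul_one, e, show X * Y - 1 = (X - 1) + (Y - 1) + (X - 1) * (Y - 1) by
            rw [Matrix.sub_mul, Matrix.mul_sub, Matrix.one_mul, Matrix.mul_one]; abel,
          Matrix.mul_add, Matrix.mul_add, Matrix.add_mul, Matrix.add_mul]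
        abel }

lemma blockHom_val (B : Matrix (Fin 3) (Fin 2) F) (B' : Matrix (Fin 2) (Fin 3) F) (h : B' * B = 1)
    (L : Subfield F) (M : Matrix.SpecialLinearGroup (Fin 2) L) :
    (blockHom B B' h L M : Matrix (Fin 3) (Fin 3) F) =
      1 + B * ((M : Matrix (Fin 2) (Fin 2) L).map L.subtype - 1) * B' := rfl

variable {G : Subgroup (GL (Fin 3) F)} {c φ d ψ : V3 F}

/-- The root group of a pair. -/
theorem pair [Fintype F] (h2 : (2 : F) ≠ 0) (hc : T G c φ) (hd : T G d ψ) {l : F}
    (hl : (φ ⬝ᵥ d) * (ψ ⬝ᵥ c) = l) (hl0 : l ≠ 0) (hex : ¬ Exc l) :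
    ∀ a ∈ fld l, T G c (a • φ) := by
  classical
  set β := ψ ⬝ᵥ c with hβ
  have hβ0 : β ≠ 0 := fun h => hl0 (by rw [← hl, h, mul_zero])
  set B : Matrix (Fin 3) (Fin 2) F := Matrix.of fun i j => ![c, β • d] j i with hB
  set B' : Matrix (Fin 2) (Fin 3) F := Matrix.of fun j i => ![β⁻¹ • ψ, l⁻¹ • φ] j i with hB'
  have h : B' * B = 1 := by
    ext i j
    have e : (B' * B) i j = ![β⁻¹ • ψ, l⁻¹ • φ] i ⬝ᵥ ![c, β • d] j := rfl
    rw [e]
    fin_cases i <;> fin_cases j
    · simp [smul_dotProduct, ← hβ, hβ0]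
    · simp [smul_dotProduct, dotProduct_smul, hd.1]
    · simp [smul_dotProduct, hc.1]
    · simp only [Fin.mk_one, Matrix.cons_val_one, Matrix.cons_val_zero, smul_dotProduct, dotProduct_smul,
        smul_eq_mul, Matrix.one_apply_eq]
      rw [mul_left_comm]
      have : (φ ⬝ᵥ d) * β = l := hl
      field_simp
      linear_combination this
  let L := fld l
  haveI : Fintype L := Fintype.ofFinite _
  have hS0 := Cfsg.Agent.S0801.result (F := L) (fun h0 => h2 (by
      simpa [map_ofNat] using congrArg L.subtype h0))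
    ⟨l, mem_fld l⟩ (fun h0 => hl0 (congrArg (fun z : L => (z : F)) h0)) (closure_fld_eq_top l)
  rcases hS0 with ⟨hgen, -⟩ | ⟨h9, hsq, -⟩
  swap
  · refine absurd ⟨?_, ?_⟩ hex
    · rw [Nat.card_eq_fintype_card]; convert h9
    · have := congrArg (fun z : L => (z : F)) hsq
      simpa using this
  set f := blockHom B B' h L
  have htop : (⊤ : Subgroup (Matrix.SpecialLinearGroup (Fin 2) L)) ≤ G.comap f := by
    rw [← hgen, Subgroup.closure_le]
    rintro M (hM | hM)
    · have : f M = tr d ψ := Units.ext (by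
        rw [blockHom_val, hM, tr_val hd.1]
        congr 1
        ext i j
        simp [Matrix.mul_apply, Fin.sum_univ_two, hB, hB', vecMulVec_apply]
        field_simp)
      show f M ∈ G
      rw [this]; exact hd.2
    · have : f M = tr c φ := Units.ext (by
        rw [blockHom_val, hM, tr_val hc.1]
        congr 1
        ext i j
        simp [Matrix.mul_apply, Fin.sum_univ_two, hB, hB', vecMulVec_apply]
        field_simp)
      show f M ∈ G
      rw [this]; exact hc.2
  intro a ha
  have hz : (a • φ) ⬝ᵥ c = 0 := by rw [smul_dotProduct, hc.1, smul_zero]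
  refine ⟨hz, ?_⟩
  let M : Matrix.SpecialLinearGroup (Fin 2) L :=
    ⟨!![1, ⟨a * l, L.mul_mem ha (mem_fld l)⟩; 0, 1], by rw [Matrix.det_fin_two_of]; ring⟩
  have : f M = tr c (a • φ) := Units.ext (by
    rw [blockHom_val, tr_val hz]
    congr 1
    ext i j
    simp [M, Matrix.mul_apply, Fin.sum_univ_two, hB, hB', vecMulVec_apply]
    field_simp)
  rw [← this]
  exact htop (Subgroup.mem_top M)

/-- Standard coordinates for a pair. -/
theorem exists_coords (hc : T G c φ) (hd : T G d ψ) {l : F} (hl : (φ ⬝ᵥ d) * (ψ ⬝ᵥ c) = l) (hl0 : l ≠ 0) :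
    ∃ P : GL (Fin 3) F, ∀ a : F,
      (T G c (a • φ) → T (G.map (conjHom P)) (Pi.single 0 1) (Pi.single 1 (a * l))) ∧
      (T G d (a • ψ) → T (G.map (conjHom P)) (Pi.single 1 1) (Pi.single 0 a)) := by
  set β := ψ ⬝ᵥ c with hβ
  have hβ0 : β ≠ 0 := fun h => hl0 (by rw [← hl, h, mul_zero])
  set b : Fin 3 → V3 F := ![c, β • d, crossProduct φ ψ] with hb
  set b' : Fin 3 → V3 F := ![β⁻¹ • ψ, l⁻¹ • φ, (-l⁻¹) • crossProduct c d] with hb'
  have hid : ∀ i j, b' i ⬝ᵥ b j = (1 : Matrix (Fin 3) (Fin 3) F) i j := by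
    intro i j
    have hcd : crossProduct c d ⬝ᵥ crossProduct φ ψ = -l := by
      rw [cross_dot_cross, dotProduct_comm c φ, dotProduct_comm d ψ, hc.1, hd.1, dotProduct_comm c ψ,
        dotProduct_comm d φ, ← hβ, ← hl]
      ring
    fin_cases i <;> fin_cases j <;> simp [hb, hb', smul_dotProduct, dotProduct_smul, hc.1, hd.1,
      ← hβ, hβ0, hl0, dot_self_cross, dot_cross_self, hcd]
    all_goals first
      | (rw [dotProduct_comm]; exact dot_self_cross c d)
      | (rw [dotProduct_comm]; exact dot_cross_self c d)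
      | (field_simp; linear_combination hl)
  let P0 : Matrix (Fin 3) (Fin 3) F := Matrix.of fun i j => b j i
  let Q0 : Matrix (Fin 3) (Fin 3) F := Matrix.of fun i j => b' i j
  have hQP : Q0 * P0 = 1 := Matrix.ext fun i j => hid i j
  let P : GL (Fin 3) F := ⟨P0, Q0, mul_eq_one_comm.1 hQP, hQP⟩
  have hP : ∀ i x, P0 *ᵥ (Pi.single i x) = x • b i := fun i x => by
    rw [Matrix.mulVec_single]; ext k; simp [P0, mul_comm]
  have hQ : ∀ i x, (Pi.single i x) ᵥ* Q0 = x • b' i := fun i x => by
    rw [Matrix.single_vecMul]; ext k; simp [Q0]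
  refine ⟨P, fun a => ⟨fun h => ?_, fun h => ?_⟩⟩
  · rw [T_conjHom]
    show T G (P0 *ᵥ _) (_ ᵥ* Q0)
    rw [hP, hQ, one_smul]
    simpa [hb, hb', smul_smul, mul_assoc, hl0] using h
  · rw [T_conjHom]
    show T G (P0 *ᵥ _) (_ ᵥ* Q0)
    rw [hP, hQ, one_smul]
    have := h.rescale hβ0
    simpa [hb, hb', smul_smul, mul_comm a] using this

/-! ### The exceptional pair -/

/-- Multiplication in `GF(9)` on pairs `(a, b) = a + bi`. -/
def mul9 (u v : ZMod 3 × ZMod 3) : ZMod 3 × ZMod 3 :=
  (u.1 * v.1 - u.2 * v.2, u.1 * v.2 + u.2 * v.1)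

/-- The squares of `GF(9)`. -/
def sq9 : List (ZMod 3 × ZMod 3) := [(0, 0), (1, 0), (2, 0), (0, 1), (0, 2)]

/-- The value of a binary quadratic form. -/
def q9 (A B C a b : ZMod 3 × ZMod 3) : ZMod 3 × ZMod 3 :=
  mul9 A (mul9 a a) + mul9 B (mul9 a b) + mul9 C (mul9 b b)

theorem q9_cases : ∀ a ∈ sq9, ∀ b ∈ sq9, ∀ c ∈ sq9,
    q9 a (-(b - c)) (-(b + c) - a) (1, 1) (1, 0) ∈ sq9 →
    q9 a (-(b - c)) (-(b + c) - a) (1, 2) (2, 0) ∈ sq9 →
    q9 a (-(b - c)) (-(b + c) - a) (1, 2) (1, 0) ∈ sq9 →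
    mul9 (-(b - c)) (-(b - c)) + mul9 (2, 0) (mul9 a (-(b + c) - a)) = (0, 0) := by decide +kernel

/-- The embedding of `GF(9)`. -/
def iota [CharP F 3] (i : F) (u : ZMod 3 × ZMod 3) : F :=
  ZMod.castHom dvd_rfl F u.1 + ZMod.castHom dvd_rfl F u.2 * i

section iota

variable [CharP F 3] {i : F}

lemma iota_add (u v : ZMod 3 × ZMod 3) : iota i (u + v) = iota i u + iota i v := by
  simp only [iota, Prod.fst_add, Prod.snd_add, map_add]; ring

lemma iota_sub (u v : ZMod 3 × ZMod 3) : iota i (u - v) = iota i u - iota i v := by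
  simp only [iota, Prod.fst_sub, Prod.snd_sub, map_sub]; ring

lemma iota_neg (u : ZMod 3 × ZMod 3) : iota i (-u) = -iota i u := by
  simp only [iota, Prod.fst_neg, Prod.snd_neg, map_neg]; ring

lemma iota_mul9 (hi : i ^ 2 = -1) (u v : ZMod 3 × ZMod 3) : iota i (mul9 u v) = iota i u * iota i v := by
  simp only [iota, mul9, map_add, map_sub, map_mul]
  linear_combination -(ZMod.castHom dvd_rfl F u.2 * ZMod.castHom dvd_rfl F v.2) * hi

lemma iota_injective (hi : i ^ 2 = -1) : Function.Injective (iota i) := by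
  intro u v h
  by_contra hne
  set w := u - v with hw
  have hw0 : w ≠ 0 := sub_ne_zero.2 hne
  have h0 : iota i w = 0 := by rw [hw, iota_sub, h, sub_self]
  obtain ⟨w', hw'⟩ : ∃ w', mul9 w w' = (1, 0) := (show ∀ w : ZMod 3 × ZMod 3, w ≠ 0 → ∃ w', mul9 w w' = (1, 0) by
    decide +kernel) w hw0
  have := iota_mul9 hi w w'
  rw [hw', h0, zero_mul] at this
  simp [iota] at this

lemma mem_sq9 {z : F} (h : z = 0 ∨ z = 1 ∨ z = -1 ∨ z = i ∨ z = -i) :
    ∃ u ∈ sq9, z = iota i u := by
  have h2 : ZMod.castHom dvd_rfl F (2 : ZMod 3) = -1 := by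
    rw [show (2 : ZMod 3) = -1 by decide, map_neg, map_one]
  rcases h with rfl | rfl | rfl | rfl | rfl
  · exact ⟨(0, 0), by simp [sq9], by simp [iota]⟩
  · exact ⟨(1, 0), by simp [sq9], by simp [iota]⟩
  · exact ⟨(2, 0), by simp [sq9], by simp only [iota, h2]; simp⟩
  · exact ⟨(0, 1), by simp [sq9], by simp [iota]⟩
  · exact ⟨(0, 2), by simp [sq9], by simp only [iota, h2]; simp⟩

end iota

end Cfsg.Agent.Mitchell.Transv
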