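/-
The largest field of a pair of transvections.
Main results:
* `mem_of_bound` : the largest field absorbs the values of pairs
* `exceptional` : a pair generating `SL₂(5)` comes with a better pair
* `exists_frame` : coordinates in which the largest field `K` gives the root groups `E₁₂(K)`, `E₂₁(K)`
-/
import Cfsg.Agent.Lib.Mitchell.Transv.Dickson

set_option autoImplicit false
set_option linter.unusedSectionVars false
set_option linter.style.haveILetI false

namespace Cfsg.Agent.Mitchell.Transv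

open Matrix Cfsg.Agent.SL3Max Cfsg.Agent.Transvect

variable {F : Type*} [Field F] [Fintype F]

lemma pow_card_of_mem {K : Subfield F} {x : F} (hx : x ∈ K) : x ^ Nat.card K = x := by
  classical
  haveI : Fintype K := Fintype.ofFinite _
  rw [Nat.card_eq_fintype_card]
  exact congrArg (fun z : K => (z : F)) (FiniteField.pow_card (⟨x, hx⟩ : K))

/-- The fixed points of `x ↦ x ^ n` have at most `n` elements. -/
lemma card_le_of_pow {n : ℕ} (hn : 1 < n) {s : Finset F} (h : ∀ x ∈ s, x ^ n = x) : s.card ≤ n := by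
  classical
  have h0 : (Polynomial.X ^ n - Polynomial.X : Polynomial F) ≠ 0 :=
    FiniteField.X_pow_card_sub_X_ne_zero F hn
  have hs : s ⊆ (Polynomial.X ^ n - Polynomial.X : Polynomial F).roots.toFinset := fun x hx => by
    rw [Multiset.mem_toFinset, Polynomial.mem_roots h0]
    simp [h x hx]
  refine (Finset.card_le_card hs).trans ((Multiset.toFinset_card_le _).trans ?_)
  exact (Polynomial.card_roots' _).trans (FiniteField.X_pow_card_sub_X_natDegree_eq F hn).le

lemma one_lt_card (K : Subfield F) : 1 < Nat.card K := Finite.one_lt_card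

lemma mem_of_pow_card {K : Subfield F} {x : F} (hx : x ^ Nat.card K = x) : x ∈ K := by
  classical
  by_contra hxK
  have h := card_le_of_pow (one_lt_card K) (s := insert x (Finset.univ.filter (· ∈ K)))
    (fun y hy => by
      rcases Finset.mem_insert.1 hy with rfl | hy
      · exact hx
      · exact pow_card_of_mem (Finset.mem_filter.1 hy).2)
  rw [Finset.card_insert_of_notMem (by simp [hxK])] at h
  have : (Finset.univ.filter (· ∈ K)).card = Nat.card K := by
    rw [Nat.card_eq_fintype_card, Fintype.card_subtype]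
  omega

/-- A proper subfield is small. -/
lemma sq_card_le {M K : Subfield F} (hle : M ≤ K) (hne : M ≠ K) : Nat.card M * Nat.card M ≤ Nat.card K := by
  letI := (Subfield.inclusion hle).toAlgebra
  haveI : Module.Finite M K := Module.Finite.of_finite
  have h := Module.natCard_eq_pow_finrank (K := M) (V := K)
  have hpos : 0 < Module.finrank M K := Module.finrank_pos
  have h1 : Module.finrank M K ≠ 1 := fun h1 => by
    rw [h1, pow_one] at h
    exact hne (SetLike.coe_injective (Set.eq_of_subset_of_ncard_le (fun x hx => hle hx)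
      (by rw [← Nat.card_coe_set_eq, ← Nat.card_coe_set_eq]; exact h.le) (Set.toFinite _)))
  rw [h, ← pow_two]
  exact Nat.pow_le_pow_right Nat.card_pos (by omega)

lemma two_mul_succ_le_pow (j : ℕ) : 2 * j + 1 ≤ 3 ^ j := by
  induction j with
  | zero => simp
  | succ j ih => rw [pow_succ]; omega

set_option maxHeartbeats 800000 in
/-- **The largest field absorbs the values.** -/
theorem mem_of_bound (h2 : (2 : F) ≠ 0) {K : Subfield F} {μ : F}
    (h : ∀ a ∈ K, a ≠ 0 → Nat.card (fld (a * μ)) ≤ Nat.card K) : μ ∈ K := by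
  classical
  by_contra hμ
  have hμ0 : μ ≠ 0 := fun h0 => hμ (h0 ▸ K.zero_mem)
  obtain ⟨p, hchar⟩ := CharP.exists F
  haveI := Fact.mk (CharP.char_is_prime F p)
  have hp3 : 3 ≤ p := by
    have := (Fact.out : p.Prime).two_le
    rcases Nat.lt_or_ge p 3 with hlt | hge
    · interval_cases p
      exact absurd (by exact_mod_cast CharP.cast_eq_zero F 2) h2
    · exact hge
  haveI : Fintype K := Fintype.ofFinite _
  obtain ⟨⟨k, hk0⟩, -, hk⟩ := FiniteField.card K p
  rw [← Nat.card_eq_fintype_card] at hk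
  simp only [PNat.mk_coe] at hk
  set r := Nat.card K with hr
  let Kx : Finset F := Finset.univ.filter fun a => a ∈ K ∧ a ≠ 0
  let A : ℕ → Finset F := fun m => Kx.filter fun a => (a * μ) ^ p ^ m = a * μ
  have hcover : Kx ⊆ (Finset.Icc 1 (k - 1)).biUnion A := by
    intro a ha
    obtain ⟨-, haK, ha0⟩ := Finset.mem_filter.1 ha
    haveI : Fintype (fld (a * μ)) := Fintype.ofFinite _
    obtain ⟨⟨m, hm0⟩, -, hm⟩ := FiniteField.card (fld (a * μ)) p
    rw [← Nat.card_eq_fintype_card] at hm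
    simp only [PNat.mk_coe] at hm
    have hfix := pow_card_of_mem (mem_fld (a * μ))
    rw [hm] at hfix
    have hmk : m ≤ k := by
      have := h a haK ha0
      rw [hm, hk] at this
      exact (Nat.pow_le_pow_iff_right (Fact.out : p.Prime).one_lt).1 this
    have hne : m ≠ k := fun e => hμ (mem_of_pow_card (by
      rw [← hr, hk, ← e]
      rw [mul_pow, show a ^ p ^ m = a by rw [e, ← hk, hr]; exact pow_card_of_mem haK] at hfix
      exact mul_left_cancel₀ ha0 hfix))
    exact Finset.mem_biUnion.2 ⟨m, Finset.mem_Icc.2 ⟨hm0, by omega⟩, Finset.mem_filter.2 ⟨ha, hfix⟩⟩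
  have hA : ∀ m ∈ Finset.Icc 1 (k - 1), (A m).card ≤ Nat.sqrt r - 1 := by
    intro m hm
    obtain ⟨hm1, hmk⟩ := Finset.mem_Icc.1 hm
    rcases (A m).eq_empty_or_nonempty with he | ⟨a0, ha0⟩
    · simp [he]
    let L : Subfield F := RingHom.eqLocusField (iterateFrobenius F p m) (RingHom.id F)
    have hL : ∀ x, x ∈ L ↔ x ^ p ^ m = x := fun x => by
      show iterateFrobenius F p m x = x ↔ _
      rw [iterateFrobenius_def]
    have hMne : K ⊓ L ≠ K := by
      intro e
      have h1 := card_le_of_pow (n := p ^ m) (Nat.one_lt_pow (by omega) (Fact.out : p.Prime).one_lt)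
        (s := Finset.univ.filter (· ∈ K)) fun x hx =>
          (hL x).1 (inf_eq_left.1 e (Finset.mem_filter.1 hx).2)
      have h2 : (Finset.univ.filter (· ∈ K)).card = r := by
        rw [hr, Nat.card_eq_fintype_card, Fintype.card_subtype]
      have h3 : p ^ m < p ^ k := Nat.pow_lt_pow_right (Fact.out : p.Prime).one_lt (by omega)
      omega
    have hMle := sq_card_le inf_le_left hMne
    have hMs : Nat.card (K ⊓ L : Subfield F) ≤ Nat.sqrt r := Nat.le_sqrt.2 hMle
    obtain ⟨ha0K, ha0e⟩ := Finset.mem_filter.1 ha0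
    obtain ⟨-, ha0K, ha00⟩ := Finset.mem_filter.1 ha0K
    have hmaps : ∀ a ∈ A m, a / a0 ∈ (Finset.univ.filter fun x => x ∈ K ⊓ L).erase 0 := by
      intro a ha
      obtain ⟨haK, hae⟩ := Finset.mem_filter.1 ha
      obtain ⟨-, haK, hane⟩ := Finset.mem_filter.1 haK
      refine Finset.mem_erase.2 ⟨div_ne_zero hane ha00, Finset.mem_filter.2 ⟨Finset.mem_univ _,
        K.div_mem haK ha0K, (hL _).2 ?_⟩⟩
      have : a / a0 = a * μ / (a0 * μ) := (mul_div_mul_right a a0 hμ0).symm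
      rw [this, div_pow, hae, ha0e]
    have h1 := Finset.card_le_card_of_injOn (fun a => a / a0) hmaps
      (fun a _ b _ hab => (div_left_inj' ha00).1 hab)
    have h2 : (Finset.univ.filter fun x => x ∈ K ⊓ L).card = Nat.card (K ⊓ L : Subfield F) := by
      rw [Nat.card_eq_fintype_card, Fintype.card_subtype]
    rw [Finset.card_erase_of_mem (Finset.mem_filter.2 ⟨Finset.mem_univ _, zero_mem (K ⊓ L)⟩), h2] at h1
    omega
  have hKx : Kx.card = r - 1 := by
    have : Kx = (Finset.univ.filter (· ∈ K)).erase 0 := by ext x; simp [Kx, and_comm]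
    rw [this, Finset.card_erase_of_mem (by simp), hr, Nat.card_eq_fintype_card, Fintype.card_subtype]
  have hsum : r - 1 ≤ (k - 1) * (Nat.sqrt r - 1) := by
    rw [← hKx]
    refine (Finset.card_le_card hcover).trans ((Finset.card_biUnion_le).trans ?_)
    refine (Finset.sum_le_card_nsmul _ _ _ hA).trans ?_
    simp
  have hs : 3 ^ (k / 2) ≤ Nat.sqrt r := Nat.le_sqrt.2 (by
    rw [← pow_add, hk]
    exact (Nat.pow_le_pow_left hp3 _).trans (Nat.pow_le_pow_right (by omega) (by omega)))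
  have hk1 := two_mul_succ_le_pow (k / 2)
  have hsr := Nat.sqrt_le r
  obtain ⟨s, hs'⟩ : ∃ s, Nat.sqrt r = s + 1 := ⟨Nat.sqrt r - 1, by omega⟩
  rw [hs'] at hsum hsr hs
  have hr1 : 1 < r := one_lt_card K
  rcases Nat.eq_zero_or_pos s with rfl | hspos
  · simp at hsum; omega
  · have : (k - 1) * (s + 1 - 1) < (s + 2) * s :=
      (Nat.mul_le_mul_right _ (show k - 1 ≤ s + 1 by omega)).trans_lt (by
        rw [Nat.add_sub_cancel]; exact Nat.mul_lt_mul_of_pos_right (by omega) hspos)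
    have e : (s + 2) * s + 1 = (s + 1) * (s + 1) := by ring
    omega

omit [Fintype F] in
lemma mul9_sq9 : ∀ u ∈ sq9, mul9 u (0, 2) ∈ sq9 := by decide +kernel

omit [Fintype F] in
lemma neg_zero_one : ((0, 2) : ZMod 3 × ZMod 3) = -(0, 1) := by decide +kernel

variable {G : Subgroup (GL (Fin 3) F)}

set_option maxHeartbeats 800000 in
/-- **A pair generating `SL₂(5)` comes with a better pair.** -/
theorem exceptional (hS : Sys G) {c φ d ψ : V3 F} (hc : T G c φ) (hd : T G d ψ) {l : F}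
    (hl : (φ ⬝ᵥ d) * (ψ ⬝ᵥ c) = l) (hl0 : l ≠ 0) (hex : Exc l) :
    ∃ e χ e' χ', T G e χ ∧ T G e' χ' ∧ (χ ⬝ᵥ e') * (χ' ⬝ᵥ e) ≠ 0 ∧ ¬ Exc ((χ ⬝ᵥ e') * (χ' ⬝ᵥ e)) ∧
      9 ≤ Nat.card (fld ((χ ⬝ᵥ e') * (χ' ⬝ᵥ e))) := by
  classical
  obtain ⟨p, hchar⟩ := CharP.exists F
  haveI := Fact.mk (CharP.char_is_prime F p)
  haveI : Fintype (fld l) := Fintype.ofFinite _
  obtain ⟨m, -, hm⟩ := FiniteField.card (fld l) p
  have hp : p = 3 := by
    have h9 : p ∣ 9 := by
      rw [← hex.1, Nat.card_eq_fintype_card, hm]; exact dvd_pow_self p m.ne_zero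
    exact (Nat.prime_dvd_prime_iff_eq Fact.out Nat.prime_three).1
      ((Fact.out : p.Prime).dvd_of_dvd_pow (show p ∣ 3 ^ 2 by norm_num; exact h9))
  subst hp
  obtain ⟨P, hP⟩ := exists_coords hc hd hl hl0
  set G' := G.map (conjHom P) with hG'
  have h12 : T G' (Pi.single 0 1) (Pi.single 1 l) := by
    simpa using (hP 1).1 (by simpa using hc)
  have h21 : T G' (Pi.single 1 1) (Pi.single 0 1) := (hP 1).2 (by simpa using hd)
  have hS' : Sys G' := hS.map_conj P
  by_contra hno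
  -- small values
  have hval : ∀ e χ e' χ', T G' e χ → T G' e' χ' → ∃ u ∈ sq9, (χ ⬝ᵥ e') * (χ' ⬝ᵥ e) = iota l u := by
    intro e χ e' χ' h h'
    refine mem_sq9 ?_
    set z := (χ ⬝ᵥ e') * (χ' ⬝ᵥ e) with hz
    by_cases hz0 : z = 0
    · exact Or.inl hz0
    rw [hG', T_conjHom] at h h'
    have hzG : (χ ᵥ* ((P⁻¹ : GL (Fin 3) F) : Matrix (Fin 3) (Fin 3) F)) ⬝ᵥ
        ((P : Matrix (Fin 3) (Fin 3) F) *ᵥ e') * ((χ' ᵥ* ((P⁻¹ : GL (Fin 3) F) : Matrix (Fin 3) (Fin 3) F)) ⬝ᵥ
          ((P : Matrix (Fin 3) (Fin 3) F) *ᵥ e)) = z := by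
      rw [← dotProduct_mulVec, ← dotProduct_mulVec, ← app_apply P, ← app_apply, app_inv_app,
        ← app_apply P, ← app_apply, app_inv_app]
    by_cases hze : Exc z
    · have : z ^ 2 = l ^ 2 := hze.2.trans hex.2.symm
      rcases eq_or_eq_neg_of_sq_eq_sq _ _ this with e1 | e1
      · exact Or.inr (Or.inr (Or.inr (Or.inl e1)))
      · exact Or.inr (Or.inr (Or.inr (Or.inr e1)))
    have h9 : Nat.card (fld z) < 9 := by
      by_contra hle
      exact hno ⟨_, _, _, _, h, h', by rw [hzG]; exact hz0, by rw [hzG]; exact hze,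
        by rw [hzG]; omega⟩
    haveI : Fintype (fld z) := Fintype.ofFinite _
    obtain ⟨⟨n, hn0⟩, -, hn⟩ := FiniteField.card (fld z) 3
    rw [← Nat.card_eq_fintype_card] at hn
    simp only [PNat.mk_coe] at hn
    have hn1 : n = 1 := by
      by_contra hne
      have : 3 ^ 2 ≤ 3 ^ n := Nat.pow_le_pow_right (by norm_num) (by omega)
      omega
    have hfix := pow_card_of_mem (mem_fld z)
    rw [hn, hn1, pow_one] at hfix
    have : z ^ 2 = 1 := mul_left_cancel₀ hz0 (by rw [mul_one, ← pow_succ']; exact hfix)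
    rcases sq_eq_one_iff.1 this with e1 | e1
    · exact Or.inr (Or.inl e1)
    · exact Or.inr (Or.inr (Or.inl e1))
  -- the root elements on the orbit
  let R : F → F → Prop := fun a b => T G' ![a, b, 0] ![-(l * b), l * a, 0]
  have R0 : R 1 0 := by
    show T G' ![1, 0, 0] ![-(l * 0), l * 1, 0]
    convert h12 using 2 <;> ext i <;> fin_cases i <;> simp
  have Rx : ∀ {a b}, R a b → R a (b + a) := fun {a b} h => by
    have h1 := T.move h21 h
    show T G' ![a, b + a, 0] ![-(l * (b + a)), l * a, 0]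
    convert h1 using 2 <;> ext i <;> fin_cases i <;> simp [mul_add] <;> ring
  have Ry : ∀ {a b}, R a b → R (a + l * b) b := fun {a b} h => by
    have h1 := T.move h12 h
    show T G' ![a + l * b, b, 0] ![-(l * b), l * (a + l * b), 0]
    convert h1 using 2 <;> ext i <;> fin_cases i <;> simp [mul_add] <;> ring
  have hi : l ^ 2 = -1 := hex.2
  -- a transvection in general position
  obtain ⟨e, χ, he2, hχ2, h⟩ : ∃ e χ : V3 F, e 2 ≠ 0 ∧ χ 2 ≠ 0 ∧ T G' e χ := by
    obtain ⟨e1, χ1, hχ1, h1, hne1⟩ := hS'.centre (Pi.single 2 1) (by simp)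
    rw [single_dotProduct, one_mul] at hne1
    by_cases hχ12 : χ1 2 ≠ 0
    · exact ⟨e1, χ1, hne1, hχ12, h1⟩
    push Not at hχ12
    obtain ⟨e2, χ2, he2, h2, hne2⟩ := hS'.axis (Pi.single 2 1) (by simp)
    rw [dotProduct_single, mul_one] at hne2
    by_cases he22 : e2 2 ≠ 0
    · exact ⟨e2, χ2, he22, hne2, h2⟩
    push Not at he22
    have key : ∀ e χ, e 2 = 0 → χ 2 ≠ 0 → T G' e χ → χ1 ⬝ᵥ e ≠ 0 →
        ∃ e χ : V3 F, e 2 ≠ 0 ∧ χ 2 ≠ 0 ∧ T G' e χ := fun e χ he hχ h hne =>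
      ⟨_, _, by simp [he, hne, hne1], by simp [hχ12, hχ], T.move h1 h⟩
    by_cases k0 : χ1 ⬝ᵥ e2 ≠ 0
    · exact key _ _ he22 hne2 h2 k0
    by_cases k1 : χ1 ⬝ᵥ (e2 + ((Pi.single 0 1 : V3 F) ⬝ᵥ e2) • Pi.single 1 1) ≠ 0
    · exact key _ _ (by simp [he22]) (by simp [hne2]) (T.move h21 h2) k1
    by_cases k2 : χ1 ⬝ᵥ (e2 + ((Pi.single 1 l : V3 F) ⬝ᵥ e2) • Pi.single 0 1) ≠ 0
    · exact key _ _ (by simp [he22]) (by simp [hne2]) (T.move h12 h2) k2
    push Not at k0 k1 k2
    exfalso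
    simp only [dotProduct_add, dotProduct_smul, k0, zero_add, single_dotProduct, dotProduct_single,
      one_mul, mul_one, smul_eq_mul] at k1 k2
    rw [dotProduct, Fin.sum_univ_three, he22, mul_zero, add_zero] at k0
    have hχne : χ1 0 ≠ 0 ∨ χ1 1 ≠ 0 := by
      by_contra hh
      push Not at hh
      exact hχ1 (funext fun i => by fin_cases i <;> simp [hh, hχ12])
    have hene : e2 0 ≠ 0 ∨ e2 1 ≠ 0 := by
      by_contra hh
      push Not at hh
      exact he2 (funext fun i => by fin_cases i <;> simp [hh, he22])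
    rcases hχne with hA | hB
    · have hb : e2 1 = 0 := by
        rcases mul_eq_zero.1 k2 with h | h
        · exact (mul_eq_zero.1 h).resolve_left hl0
        · exact absurd h hA
      have ha : e2 0 = 0 := by
        rw [hb, mul_zero, add_zero] at k0
        exact (mul_eq_zero.1 k0).resolve_left hA
      exact hene.elim (fun h => h ha) (fun h => h hb)
    · have ha : e2 0 = 0 := (mul_eq_zero.1 k1).resolve_right hB
      have hb : e2 1 = 0 := by
        rw [ha, mul_zero, zero_add] at k0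
        exact (mul_eq_zero.1 k0).resolve_left hB
      exact hene.elim (fun h => h ha) (fun h => h hb)
  -- the values on the orbit
  let Q : F → F → F := fun a b =>
    e 1 * χ 0 * (a * a) + (e 1 * χ 1 - e 0 * χ 0) * (a * b) + -(e 0 * χ 1) * (b * b)
  have hQ : ∀ {a b}, R a b → ∃ u ∈ sq9, Q a b = iota l u := by
    intro a b hab
    obtain ⟨u, hu, hue⟩ := hval _ _ _ _ hab h
    have e1 : Q a b * l = iota l u := by
      rw [← hue]
      simp [Q, dotProduct, Fin.sum_univ_three]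
      ring
    obtain ⟨u', hu', hu'e⟩ : ∃ u' ∈ sq9, mul9 u (0, 2) = u' := ⟨_, mul9_sq9 u hu, rfl⟩
    refine ⟨u', hu', ?_⟩
    have h02 : iota l (0, 2) = -l := by
      rw [neg_zero_one, iota_neg]; simp [iota]
    rw [← hu'e, iota_mul9 hi, ← e1, h02]
    linear_combination Q a b * hi
  obtain ⟨A, hA, hAe⟩ := hQ R0
  have R11 := Rx R0
  have R12 := Rx R11
  obtain ⟨B, hB, hBe⟩ := hQ R11
  obtain ⟨C, hC, hCe⟩ := hQ R12
  simp only [zero_add] at R11 R12 hBe hCe
  have h3 : (3 : F) = 0 := by exact_mod_cast CharP.cast_eq_zero F 3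
  have hX : e 1 * χ 0 = iota l A := by rw [← hAe]; simp [Q]
  have hY : e 1 * χ 1 - e 0 * χ 0 = iota l (-(B - C)) := by
    rw [iota_neg, iota_sub, ← hBe, ← hCe]
    simp [Q]
    linear_combination (e 0 * χ 1) * h3
  have hZ : -(e 0 * χ 1) = iota l (-(B + C) - A) := by
    rw [iota_sub, iota_neg, iota_add, ← hBe, ← hCe, ← hAe]
    simp [Q]
    linear_combination (e 1 * χ 0 - 2 * (e 0 * χ 1) + e 1 * χ 1 - e 0 * χ 0) * h3
  have heval : ∀ a b : ZMod 3 × ZMod 3, R (iota l a) (iota l b) →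
      q9 A (-(B - C)) (-(B + C) - A) a b ∈ sq9 := by
    intro a b hab
    obtain ⟨u, hu, hue⟩ := hQ hab
    have : iota l (q9 A (-(B - C)) (-(B + C) - A) a b) = iota l u := by
      rw [← hue]
      simp only [q9, Q, iota_add, iota_mul9 hi, ← hX, ← hY, ← hZ]
    rwa [iota_injective hi this]
  have v4 : R (iota l (1, 1)) (iota l (1, 0)) := by
    convert Ry R11 using 1 <;> simp [iota]
  have v5 : R (iota l (1, 2)) (iota l (2, 0)) := by
    have h2' : ZMod.castHom dvd_rfl F (2 : ZMod 3) = 2 := map_ofNat _ 2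
    convert Ry R12 using 1
    · simp only [iota, h2', map_one]; ring
    · simp only [iota, h2', map_zero]; ring
  have v6 : R (iota l (1, 2)) (iota l (1, 0)) := by
    have h2' : ZMod.castHom dvd_rfl F (2 : ZMod 3) = 2 := map_ofNat _ 2
    convert Ry (Ry R11) using 1
    · simp only [iota, h2', map_one]; ring
    · simp [iota]
  have hdisc := q9_cases A hA B hB C hC (heval _ _ v4) (heval _ _ v5) (heval _ _ v6)
  have hd0 := congrArg (iota l) hdisc
  rw [iota_add, iota_mul9 hi, iota_mul9 hi, iota_mul9 hi, ← hX, ← hY, ← hZ] at hd0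
  have h20 : iota l ((2, 0) : ZMod 3 × ZMod 3) = 2 := by
    simp only [iota, map_ofNat, map_zero]; ring
  rw [h20, show iota l ((0, 0) : ZMod 3 × ZMod 3) = 0 by simp [iota]] at hd0
  have horth : χ ⬝ᵥ e = 0 := h.1
  rw [dotProduct, Fin.sum_univ_three] at horth
  have : (χ 2 * e 2) ^ 2 = 0 := by
    linear_combination hd0 + (χ 2 * e 2 - χ 0 * e 0 - χ 1 * e 1) * horth +
      2 * (e 1 * χ 0 * (e 0 * χ 1)) * h3
  exact mul_ne_zero hχ2 he2 (pow_eq_zero_iff two_ne_zero |>.1 this)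

/-- The root groups of a pair whose field `K` is largest. -/
structure Fr (G : Subgroup (GL (Fin 3) F)) (K : Subfield F) (l0 : F) : Prop where
  two : (2 : F) ≠ 0
  sys : Sys G
  gen : fld l0 = K
  ne : l0 ≠ 0
  good : ¬ Exc l0
  r12 : ∀ a ∈ K, T G (Pi.single 0 1) (Pi.single 1 a)
  r21 : ∀ a ∈ K, T G (Pi.single 1 1) (Pi.single 0 a)
  bound : ∀ e χ e' χ', T G e χ → T G e' χ' → (χ ⬝ᵥ e') * (χ' ⬝ᵥ e) ≠ 0 →
    Nat.card (fld ((χ ⬝ᵥ e') * (χ' ⬝ᵥ e))) ≤ Nat.card K

/-- **Coordinates for the largest field.** -/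
theorem exists_frame (h2 : (2 : F) ≠ 0) (hS : Sys G) :
    ∃ (P : GL (Fin 3) F) (K : Subfield F) (l0 : F), Fr (G.map (conjHom P)) K l0 := by
  classical
  obtain ⟨c0, φ0, d0, ψ0, hc0, hd0, hne⟩ : ∃ c φ d ψ, T G c φ ∧ T G d ψ ∧ (φ ⬝ᵥ d) * (ψ ⬝ᵥ c) ≠ 0 := by
    by_contra hno
    push Not at hno
    obtain ⟨c, φ, hs0, hs, hφv⟩ := hS.axis (Pi.single 0 1) (by simp)
    have hφ : φ ≠ 0 := fun h => hφv (by rw [h, zero_dotProduct])
    obtain ⟨e, χ, hχ, hu, hφe⟩ := hS.centre φ hφ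
    have hχc : χ ⬝ᵥ c = 0 := (mul_eq_zero.1 (hno c φ e χ hs hu)).resolve_left hφe
    have hw := T.comm_right hu hs (e := c) hχc
    obtain ⟨x, hx⟩ : ∃ x : V3 F, χ ⬝ᵥ x ≠ 0 := by
      by_contra hh
      push Not at hh
      exact hχ (funext fun i => by simpa using hh (Pi.single i 1))
    obtain ⟨h', η, hη, hv, hχh⟩ := hS.centre χ hχ
    have he : η ⬝ᵥ e = 0 := (mul_eq_zero.1 (hno e χ h' η hu hv)).resolve_left hχh
    have hc' : η ⬝ᵥ c = 0 := (mul_eq_zero.1 (hno c _ h' η hw hv)).resolve_left (by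
      rw [smul_dotProduct, smul_eq_mul]; exact mul_ne_zero hφe hχh)
    have hnot : e ∉ F ∙ c := fun hmem => by
      obtain ⟨a, rfl⟩ := Submodule.mem_span_singleton.1 hmem
      exact hφe (by rw [dotProduct_smul, hs.1, smul_zero])
    have hdχ : dot χ ≠ 0 := fun h => hx (by simpa using LinearMap.congr_fun h x)
    obtain ⟨a, ha⟩ := line_unique (ψ := dot η) hdχ hs0 hnot hχc hu.1 hc' he
    have := LinearMap.congr_fun ha h'
    simp only [dot_apply, LinearMap.smul_apply, smul_eq_mul, hv.1] at this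
    have ha0 : a = 0 := (mul_eq_zero.1 this.symm).resolve_right hχh
    rw [ha0, zero_smul] at ha
    exact hη (funext fun i => by simpa using LinearMap.congr_fun ha (Pi.single i 1))
  let V : Finset F := Finset.univ.filter fun l =>
    l ≠ 0 ∧ ¬ Exc l ∧ ∃ c φ d ψ, T G c φ ∧ T G d ψ ∧ (φ ⬝ᵥ d) * (ψ ⬝ᵥ c) = l
  have hV : V.Nonempty := by
    by_cases hex : Exc ((φ0 ⬝ᵥ d0) * (ψ0 ⬝ᵥ c0))
    · obtain ⟨e, χ, e', χ', h, h', a, b, -⟩ := exceptional hS hc0 hd0 rfl hne hex
      exact ⟨_, Finset.mem_filter.2 ⟨Finset.mem_univ _, a, b, e, χ, e', χ', h, h', rfl⟩⟩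
    · exact ⟨_, Finset.mem_filter.2 ⟨Finset.mem_univ _, hne, hex, c0, φ0, d0, ψ0, hc0, hd0, rfl⟩⟩
  obtain ⟨l0, hl0V, hmax⟩ := V.exists_max_image (fun l => Nat.card (fld l)) hV
  obtain ⟨-, hl0, hex0, c, φ, d, ψ, hc, hd, hl⟩ := Finset.mem_filter.1 hl0V
  obtain ⟨P, hP⟩ := exists_coords hc hd hl hl0
  have hr1 := pair h2 hc hd hl hl0 hex0
  have hr2 := pair h2 hd hc (by rw [mul_comm]; exact hl) hl0 hex0
  refine ⟨P, fld l0, l0, h2, hS.map_conj P, rfl, hl0, hex0, fun a ha => ?_, fun a ha => ?_, ?_⟩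
  · have := (hP (a / l0)).1 (hr1 _ ((fld l0).div_mem ha (mem_fld l0)))
    rwa [div_mul_cancel₀ a hl0] at this
  · exact (hP a).2 (hr2 _ ha)
  intro e χ e' χ' h h' hne'
  rw [T_conjHom] at h h'
  set z := (χ ⬝ᵥ e') * (χ' ⬝ᵥ e) with hz
  have hzG : (χ ᵥ* ((P⁻¹ : GL (Fin 3) F) : Matrix (Fin 3) (Fin 3) F)) ⬝ᵥ
      ((P : Matrix (Fin 3) (Fin 3) F) *ᵥ e') * ((χ' ᵥ* ((P⁻¹ : GL (Fin 3) F) : Matrix (Fin 3) (Fin 3) F)) ⬝ᵥ
        ((P : Matrix (Fin 3) (Fin 3) F) *ᵥ e)) = z := by
    rw [← dotProduct_mulVec, ← dotProduct_mulVec, ← app_apply P, ← app_apply, app_inv_app,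
      ← app_apply P, ← app_apply, app_inv_app]
  by_cases hze : Exc z
  · obtain ⟨e1, χ1, e1', χ1', g, g', a, b, h9⟩ := exceptional hS h h' hzG hne' hze
    rw [hze.1]
    exact h9.trans (hmax _ (Finset.mem_filter.2 ⟨Finset.mem_univ _, a, b, e1, χ1, e1', χ1', g, g', rfl⟩))
  · exact hmax z (Finset.mem_filter.2 ⟨Finset.mem_univ _, hne', hze, _, _, _, _, h, h', hzG⟩)

end Cfsg.Agent.Mitchell.Transv
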