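/-
The linear case.
Main results:
* `Fr.val_mem`, `Fr.entries` : values of pairs lie in the largest field `K`
* `Roots` : what the later arguments use of a frame, in any characteristic
* `isSL_of_trig` : a root group `E₃₂` gives `SL₃(K)`
* `IsSL.of_conj`, `IsSL.of_dual`
-/
import Cfsg.Agent.Lib.Mitchell.Transv.Frame
import Cfsg.Agent.Lib.C5.Linear

set_option autoImplicit false
set_option linter.unusedSectionVars false
set_option linter.style.haveILetI false

namespace Cfsg.Agent.Mitchell.Transv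

open Matrix Cfsg.Agent.SL3Max Cfsg.Agent.Transvect

variable {F : Type*} [Field F] [Fintype F] {G : Subgroup (GL (Fin 3) F)} {K : Subfield F} {l0 : F}

lemma Fr.mem (H : Fr G K l0) : l0 ∈ K := H.gen ▸ mem_fld l0

/-- Values of pairs lie in `K`. -/
lemma Fr.val_mem (H : Fr G K l0) {c φ e χ : V3 F} (hc : ∀ a ∈ K, T G c (a • φ)) (h : T G e χ) :
    (φ ⬝ᵥ e) * (χ ⬝ᵥ c) ∈ K := by
  by_cases hz : (φ ⬝ᵥ e) * (χ ⬝ᵥ c) = 0
  · rw [hz]; exact K.zero_mem
  refine mem_of_bound H.two fun a ha ha0 => ?_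
  have e1 : ((a • φ) ⬝ᵥ e) * (χ ⬝ᵥ c) = a * ((φ ⬝ᵥ e) * (χ ⬝ᵥ c)) := by
    rw [smul_dotProduct, smul_eq_mul, mul_assoc]
  rw [← e1]
  exact H.bound _ _ _ _ (hc a ha) h (by rw [e1]; exact mul_ne_zero ha0 hz)

/-- Root groups spread along pairs. -/
lemma Fr.full (H : Fr G K l0) {c φ e χ : V3 F} (hc : ∀ a ∈ K, T G c (a • φ)) (h : T G e χ)
    (hne : (φ ⬝ᵥ e) * (χ ⬝ᵥ c) ≠ 0) : ∀ a ∈ K, T G e (a • χ) := by
  intro a ha
  have hμ := H.val_mem hc h
  set μ := (φ ⬝ᵥ e) * (χ ⬝ᵥ c) with hμdef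
  have hl : (χ ⬝ᵥ c) * (((l0 / μ) • φ) ⬝ᵥ e) = l0 := by
    rw [smul_dotProduct, smul_eq_mul, ← mul_assoc, mul_comm _ (l0 / μ), mul_assoc, mul_comm (χ ⬝ᵥ c),
      ← hμdef, div_mul_cancel₀ _ hne]
  exact pair H.two h (hc _ (K.div_mem H.mem hμ)) hl H.ne H.good a (H.gen.symm ▸ ha)

/-- Two root groups over `K` whose values against all transvections lie in `K`. -/
structure Roots (G : Subgroup (GL (Fin 3) F)) (K : Subfield F) : Prop where
  sys : Sys G
  r12 : ∀ a ∈ K, T G (Pi.single 0 1) (Pi.single 1 a)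
  r21 : ∀ a ∈ K, T G (Pi.single 1 1) (Pi.single 0 a)
  val_mem : ∀ {c φ e χ : V3 F}, (∀ a ∈ K, T G c (a • φ)) → T G e χ → (φ ⬝ᵥ e) * (χ ⬝ᵥ c) ∈ K

lemma Fr.roots (H : Fr G K l0) : Roots G K := ⟨H.sys, H.r12, H.r21, H.val_mem⟩

lemma Roots.root12 (H : Roots G K) : ∀ a ∈ K, T G (Pi.single 0 1) (a • (Pi.single 1 1 : V3 F)) := fun a ha => by
  rw [show a • (Pi.single 1 1 : V3 F) = Pi.single 1 a by ext i; fin_cases i <;> simp]
  exact H.r12 a ha

lemma Roots.root21 (H : Roots G K) : ∀ a ∈ K, T G (Pi.single 1 1) (a • (Pi.single 0 1 : V3 F)) := fun a ha => by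
  rw [show a • (Pi.single 0 1 : V3 F) = Pi.single 0 a by ext i; fin_cases i <;> simp]
  exact H.r21 a ha

lemma Roots.root11 (H : Roots G K) : ∀ a ∈ K, T G ![1, 1, 0] (a • ![-1, 1, 0]) := fun a ha => by
  have h := T.move (H.r21 1 K.one_mem) (H.r12 a ha)
  convert h using 1 <;> ext i <;> fin_cases i <;> simp

/-- The block of a transvection. -/
lemma Roots.entries (H : Roots G K) {e χ : V3 F} (h : T G e χ) :
    e 1 * χ 0 ∈ K ∧ e 0 * χ 1 ∈ K ∧ e 0 * χ 0 - e 1 * χ 1 ∈ K := by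
  have h1 := H.val_mem H.root12 h
  have h2 := H.val_mem H.root21 h
  have h3 := H.val_mem H.root11 h
  simp only [single_dotProduct, dotProduct_single, one_mul, mul_one] at h1 h2
  refine ⟨h1, h2, ?_⟩
  have h4 := K.add_mem h3 (K.sub_mem h2 h1)
  have e3 : (![-1, 1, 0] ⬝ᵥ e) * (χ ⬝ᵥ ![1, 1, 0]) + (e 0 * χ 1 - e 1 * χ 0) =
      -(e 0 * χ 0 - e 1 * χ 1) := by
    simp [dotProduct, Fin.sum_univ_three]; ring
  rw [e3] at h4
  simpa using K.neg_mem h4

lemma Fr.root12 (H : Fr G K l0) : ∀ a ∈ K, T G (Pi.single 0 1) (a • (Pi.single 1 1 : V3 F)) := H.roots.root12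

lemma Fr.root21 (H : Fr G K l0) : ∀ a ∈ K, T G (Pi.single 1 1) (a • (Pi.single 0 1 : V3 F)) := H.roots.root21

lemma Fr.entries (H : Fr G K l0) {e χ : V3 F} (h : T G e χ) :
    e 1 * χ 0 ∈ K ∧ e 0 * χ 1 ∈ K ∧ e 0 * χ 0 - e 1 * χ 1 ∈ K := H.roots.entries h

/-- An antisymmetric diagonal lies in `K`. -/
def Half (K : Subfield F) : Prop := ∀ a b : F, a + b = 0 → a - b ∈ K → a * b ∈ K → a ∈ K

/-- The diagonal of a transvection follows from the rest. -/
def Diag (K : Subfield F) : Prop := ∀ e χ : V3 F, χ 0 * e 0 + χ 1 * e 1 + χ 2 * e 2 = 0 →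
  (∀ i j : Fin 3, i ≠ j → e i * χ j ∈ K) → e 0 * χ 0 - e 1 * χ 1 ∈ K → e 0 * χ 0 ∈ K

lemma half_of_two_ne (h2 : (2 : F) ≠ 0) : Half K := fun a b hab hd _ => by
  rw [show a = (a - b) / 2 by rw [eq_div_iff h2]; linear_combination hab]
  exact K.div_mem hd (by exact_mod_cast natCast_mem K 2)

lemma diag_of_two_ne (h2 : (2 : F) ≠ 0) : Diag K := fun e χ horth ho hd => by
  have h2K : (2 : F) ∈ K := by exact_mod_cast natCast_mem K 2
  have hd22 : e 2 * χ 2 ∈ K := by
    by_cases hA : e 0 * χ 1 = 0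
    · by_cases hB : e 1 * χ 0 = 0
      · have : (e 0 * χ 0) * (e 1 * χ 1) = 0 := by
          rw [show (e 0 * χ 0) * (e 1 * χ 1) = (e 0 * χ 1) * (e 1 * χ 0) by ring, hA, zero_mul]
        rcases mul_eq_zero.1 this with h0 | h0
        · rw [show e 2 * χ 2 = e 0 * χ 0 - e 1 * χ 1 by linear_combination horth - 2 * h0]
          exact hd
        · rw [show e 2 * χ 2 = -(e 0 * χ 0 - e 1 * χ 1) by linear_combination horth - 2 * h0]
          exact K.neg_mem hd
      · rw [show e 2 * χ 2 = (e 2 * χ 0) * (e 1 * χ 2) / (e 1 * χ 0) by rw [eq_div_iff hB]; ring]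
        exact K.div_mem (K.mul_mem (ho 2 0 (by decide)) (ho 1 2 (by decide))) (ho 1 0 (by decide))
    · rw [show e 2 * χ 2 = (e 2 * χ 1) * (e 0 * χ 2) / (e 0 * χ 1) by rw [eq_div_iff hA]; ring]
      exact K.div_mem (K.mul_mem (ho 2 1 (by decide)) (ho 0 2 (by decide))) (ho 0 1 (by decide))
  rw [show e 0 * χ 0 = ((e 0 * χ 0 - e 1 * χ 1) - e 2 * χ 2) / 2 by
    rw [eq_div_iff h2]; linear_combination horth]
  exact K.div_mem (K.sub_mem hd hd22) h2K

/-- `SL₃` over a subfield, in some coordinates. -/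
def IsSL (G : Subgroup (GL (Fin 3) F)) : Prop :=
  ∃ (K : Subfield F) (P : GL (Fin 3) F),
    G = (⊤ : Subgroup (Matrix.SpecialLinearGroup (Fin 3) K)).map (embK K P)

lemma embK_apply (K : Subfield F) (P : GL (Fin 3) F) (M : Matrix.SpecialLinearGroup (Fin 3) K) :
    embK K P M = P * Matrix.SpecialLinearGroup.toGL (Matrix.SpecialLinearGroup.map K.subtype M) * P⁻¹ := rfl

lemma map_conjHom_map (P : GL (Fin 3) F) (G : Subgroup (GL (Fin 3) F)) :
    (G.map (conjHom P)).map (MulAut.conj P).toMonoidHom = G := by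
  rw [Subgroup.map_map]
  convert Subgroup.map_id G using 2
  ext g : 1
  simp [conjHom, mul_assoc]

lemma IsSL.of_conj {P : GL (Fin 3) F} (h : IsSL (G.map (conjHom P))) : IsSL G := by
  obtain ⟨K, Q, hQ⟩ := h
  refine ⟨K, P * Q, ?_⟩
  conv_lhs => rw [← map_conjHom_map P G, hQ, Subgroup.map_map]
  congr 1
  ext M : 1
  simp [embK_apply, mul_assoc]

lemma dualHom_map_map (G : Subgroup (GL (Fin 3) F)) : (G.map dualHom).map dualHom = G := by
  rw [Subgroup.map_map]
  convert Subgroup.map_id G using 2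
  ext g : 1
  exact dualHom_dualHom g

lemma IsSL.of_dual (h : IsSL (G.map dualHom)) : IsSL G := by
  obtain ⟨K, Q, hQ⟩ := h
  refine ⟨K, dualHom Q, ?_⟩
  have hcore : ∀ M N : Matrix.SpecialLinearGroup (Fin 3) K,
      (N : Matrix (Fin 3) (Fin 3) K) = ((M⁻¹ : Matrix.SpecialLinearGroup (Fin 3) K) : Matrix (Fin 3) (Fin 3) K)ᵀ →
      embK K (dualHom Q) N = dualHom (embK K Q M) := fun M N hN => by
    rw [embK_apply, embK_apply, map_mul, map_mul, map_inv]
    congr 2
    refine Units.ext ?_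
    show _ = ((((Matrix.SpecialLinearGroup.toGL (Matrix.SpecialLinearGroup.map K.subtype M))⁻¹ :
      GL (Fin 3) F)) : Matrix (Fin 3) (Fin 3) F)ᵀ
    rw [← map_inv, ← map_inv]
    show (N : Matrix (Fin 3) (Fin 3) K).map K.subtype = _
    rw [hN]
    rfl
  have hinv : ∀ M : Matrix.SpecialLinearGroup (Fin 3) K, ∃ N : Matrix.SpecialLinearGroup (Fin 3) K,
      (N : Matrix (Fin 3) (Fin 3) K) = ((M⁻¹ : Matrix.SpecialLinearGroup (Fin 3) K) : Matrix (Fin 3) (Fin 3) K)ᵀ :=
    fun M => ⟨⟨((M⁻¹ : Matrix.SpecialLinearGroup (Fin 3) K) : Matrix (Fin 3) (Fin 3) K)ᵀ,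
      (Matrix.det_transpose _).trans (M⁻¹).2⟩, rfl⟩
  conv_lhs => rw [← dualHom_map_map G, hQ, Subgroup.map_map]
  refine le_antisymm ?_ ?_
  · rintro _ ⟨M, -, rfl⟩
    obtain ⟨N, hN⟩ := hinv M
    exact ⟨N, trivial, hcore M N hN⟩
  · rintro _ ⟨N, -, rfl⟩
    obtain ⟨M, hM⟩ := hinv N
    refine ⟨M, trivial, ?_⟩
    refine (hcore M N ?_).symm
    rw [Matrix.SpecialLinearGroup.coe_inv, hM, Matrix.SpecialLinearGroup.coe_inv, Matrix.adjugate_transpose,
      Matrix.transpose_transpose]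
    rw [Matrix.adjugate_adjugate _ (by simp), Matrix.SpecialLinearGroup.det_coe, one_pow, one_smul]

/-- A transvection with centre `e₃` and axis coordinate two. -/
def Trig (G : Subgroup (GL (Fin 3) F)) : Prop :=
  ∃ ι : F, ι ≠ 0 ∧ T G (Pi.single 2 ι) (Pi.single 1 1)

/-- Transport of a frame. -/
lemma Fr.map_conj (H : Fr G K l0) (P : GL (Fin 3) F)
    (h1 : ∀ i : Fin 3, i ≠ 2 → (P : Matrix (Fin 3) (Fin 3) F) *ᵥ Pi.single i 1 = Pi.single i 1)
    (h2 : ∀ i : Fin 3, i ≠ 2 → ∀ a : F,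
      Pi.single i a ᵥ* ((P⁻¹ : GL (Fin 3) F) : Matrix (Fin 3) (Fin 3) F) = Pi.single i a) :
    Fr (G.map (conjHom P)) K l0 where
  two := H.two
  sys := H.sys.map_conj P
  gen := H.gen
  ne := H.ne
  good := H.good
  r12 a ha := by rw [T_conjHom, h1 0 (by decide), h2 1 (by decide)]; exact H.r12 a ha
  r21 a ha := by rw [T_conjHom, h1 1 (by decide), h2 0 (by decide)]; exact H.r21 a ha
  bound e χ e' χ' h h' hne := by
    rw [T_conjHom] at h h'
    have hz : ∀ u v : V3 F, (u ᵥ* ((P⁻¹ : GL (Fin 3) F) : Matrix (Fin 3) (Fin 3) F)) ⬝ᵥ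
        ((P : Matrix (Fin 3) (Fin 3) F) *ᵥ v) = u ⬝ᵥ v := fun u v => by
      rw [← dotProduct_mulVec, ← app_apply, ← app_apply, app_inv_app]
    have := H.bound _ _ _ _ h h' (by rw [hz, hz]; exact hne)
    rwa [hz, hz] at this

lemma Fr.map_dual (H : Fr G K l0) : Fr (G.map dualHom) K l0 where
  two := H.two
  sys := H.sys.map_dual
  gen := H.gen
  ne := H.ne
  good := H.good
  r12 a ha := by
    rw [T_dualHom]
    have := H.root21 a ha
    convert T.shift' this (by simp) using 1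
    ext i; fin_cases i <;> simp
  r21 a ha := by
    rw [T_dualHom]
    have := H.root12 a ha
    convert T.shift' this (by simp) using 1
    ext i; fin_cases i <;> simp
  bound e χ e' χ' h h' hne := by
    rw [T_dualHom] at h h'
    have e1 : (χ ⬝ᵥ e') * (χ' ⬝ᵥ e) = (e ⬝ᵥ χ') * (e' ⬝ᵥ χ) := by
      rw [dotProduct_comm χ, dotProduct_comm χ', mul_comm]
    rw [e1] at hne ⊢
    exact H.bound _ _ _ _ h h' hne

lemma Roots.map_conj (H : Roots G K) (P : GL (Fin 3) F)
    (h1 : ∀ i : Fin 3, i ≠ 2 → (P : Matrix (Fin 3) (Fin 3) F) *ᵥ Pi.single i 1 = Pi.single i 1)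
    (h2 : ∀ i : Fin 3, i ≠ 2 → ∀ a : F,
      Pi.single i a ᵥ* ((P⁻¹ : GL (Fin 3) F) : Matrix (Fin 3) (Fin 3) F) = Pi.single i a) :
    Roots (G.map (conjHom P)) K where
  sys := H.sys.map_conj P
  r12 a ha := by rw [T_conjHom, h1 0 (by decide), h2 1 (by decide)]; exact H.r12 a ha
  r21 a ha := by rw [T_conjHom, h1 1 (by decide), h2 0 (by decide)]; exact H.r21 a ha
  val_mem {c φ e χ} hc h := by
    rw [T_conjHom] at h
    have hz : ∀ u v : V3 F, (u ᵥ* ((P⁻¹ : GL (Fin 3) F) : Matrix (Fin 3) (Fin 3) F)) ⬝ᵥ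
        ((P : Matrix (Fin 3) (Fin 3) F) *ᵥ v) = u ⬝ᵥ v := fun u v => by
      rw [← dotProduct_mulVec, ← app_apply, ← app_apply, app_inv_app]
    have := H.val_mem (c := (P : Matrix (Fin 3) (Fin 3) F) *ᵥ c)
      (φ := φ ᵥ* ((P⁻¹ : GL (Fin 3) F) : Matrix (Fin 3) (Fin 3) F))
      (fun a ha => by rw [← Matrix.smul_vecMul]; exact T_conjHom.1 (hc a ha)) h
    rwa [hz, hz] at this

lemma Roots.map_dual (H : Roots G K) : Roots (G.map dualHom) K where
  sys := H.sys.map_dual
  r12 a ha := by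
    rw [T_dualHom]
    have := H.root21 a ha
    convert T.shift' this (by simp) using 1
    ext i; fin_cases i <;> simp
  r21 a ha := by
    rw [T_dualHom]
    have := H.root12 a ha
    convert T.shift' this (by simp) using 1
    ext i; fin_cases i <;> simp
  val_mem {c φ e χ} hc h := by
    rw [T_dualHom] at h
    have h0 : c ⬝ᵥ φ = 0 := by
      have := (hc 1 K.one_mem).1
      rw [one_smul, dotProduct_comm] at this
      exact this
    have := H.val_mem (c := φ) (φ := c) (fun a ha => T.shift (T_dualHom.1 (hc a ha)) h0) h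
    rwa [dotProduct_comm c χ, dotProduct_comm e φ, mul_comm] at this

set_option maxHeartbeats 800000 in
/-- All six root groups give `SL₃(K)`. -/
theorem isSL_of_roots (H : Roots G K) (hD : Diag K)
    (h31 : ∀ a ∈ K, T G (Pi.single 2 1) (a • (Pi.single 0 1 : V3 F)))
    (h32 : ∀ a ∈ K, T G (Pi.single 2 1) (a • (Pi.single 1 1 : V3 F)))
    (h13 : ∀ a ∈ K, T G (Pi.single 0 1) (a • (Pi.single 2 1 : V3 F)))
    (h23 : ∀ a ∈ K, T G (Pi.single 1 1) (a • (Pi.single 2 1 : V3 F))) : IsSL G := by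
  classical
  refine ⟨K, 1, le_antisymm ?_ ?_⟩
  · conv_lhs => rw [H.sys.gen]
    rw [Subgroup.closure_le]
    rintro g ⟨e, χ, h, rfl⟩
    have o10 := (H.entries h).1
    have o01 := (H.entries h).2.1
    have hd := (H.entries h).2.2
    have o02 := H.val_mem h31 h
    have o12 := H.val_mem h32 h
    have o20 := H.val_mem h13 h
    have o21 := H.val_mem h23 h
    simp only [single_dotProduct, dotProduct_single, one_mul, mul_one] at o02 o12 o20 o21
    have horth : χ 0 * e 0 + χ 1 * e 1 + χ 2 * e 2 = 0 := by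
      have := h.1
      rwa [dotProduct, Fin.sum_univ_three] at this
    have hoff : ∀ i j : Fin 3, i ≠ j → e i * χ j ∈ K := by
      intro i j hij
      fin_cases i <;> fin_cases j <;> first | exact absurd rfl hij | assumption
    have h0' : e 0 * χ 0 ∈ K := hD e χ horth hoff hd
    have h1' : e 1 * χ 1 ∈ K := by
      rw [show e 1 * χ 1 = e 0 * χ 0 - (e 0 * χ 0 - e 1 * χ 1) by ring]
      exact K.sub_mem h0' hd
    have hd22 : e 2 * χ 2 ∈ K := by
      rw [show e 2 * χ 2 = -(e 0 * χ 0) - e 1 * χ 1 by linear_combination horth]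
      exact K.sub_mem (K.neg_mem h0') h1'
    have hall : ∀ i j, e i * χ j ∈ K := by
      intro i j
      fin_cases i <;> fin_cases j <;> assumption
    have hent : ∀ i j, (1 + vecMulVec e χ : Matrix (Fin 3) (Fin 3) F) i j ∈ K := fun i j => by
      rw [Matrix.add_apply, vecMulVec_apply]
      refine K.add_mem ?_ (hall i j)
      rw [Matrix.one_apply]
      split
      · exact K.one_mem
      · exact K.zero_mem
    let M : Matrix (Fin 3) (Fin 3) K := Matrix.of fun i j => ⟨_, hent i j⟩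
    have hM : M.det = 1 := by
      refine Subtype.ext ?_
      show K.subtype M.det = K.subtype 1
      rw [map_one, RingHom.map_det]
      have e1 : K.subtype.mapMatrix M = ((tr e χ : GL (Fin 3) F) : Matrix (Fin 3) (Fin 3) F) := by
        rw [tr_val h.1]; rfl
      rw [e1]
      exact mem_sl_iff.1 (tv_mem_sl _ _)
    obtain ⟨M', hM'⟩ : ∃ M' : Matrix.SpecialLinearGroup (Fin 3) K, (M' : Matrix (Fin 3) (Fin 3) K) = M :=
      ⟨⟨M, hM⟩, rfl⟩
    refine ⟨M', trivial, ?_⟩
    rw [embK_apply, one_mul, inv_one, mul_one]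
    refine Units.ext ?_
    rw [tr_val h.1]
    show (M' : Matrix (Fin 3) (Fin 3) K).map K.subtype = _
    rw [hM']
    rfl
  · rintro _ ⟨M, -, rfl⟩
    rw [embK_apply, one_mul, inv_one, mul_one]
    let f : GL (Fin 3) K →* GL (Fin 3) F := Matrix.GeneralLinearGroup.map K.subtype
    have hmem : Matrix.SpecialLinearGroup.toGL M ∈ G.comap f := by
      refine C5.sl_le_of_elem (G.comap f) (fun i j hij a => ?_) (mem_sl_iff.2 (M.2))
      have hroot : ∀ (i j : Fin 3), i ≠ j → T G (Pi.single i 1) ((a : F) • (Pi.single j 1 : V3 F)) := by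
        intro i j hij
        fin_cases i <;> fin_cases j <;> first
          | exact absurd rfl hij
          | exact H.root12 _ a.2
          | exact H.root21 _ a.2
          | exact h13 _ a.2
          | exact h23 _ a.2
          | exact h31 _ a.2
          | exact h32 _ a.2
      obtain ⟨h0, hg⟩ := hroot i j hij
      show f _ ∈ G
      convert hg using 1
      refine Units.ext ?_
      rw [tr_val h0]
      show (((elem i j a : GL (Fin 3) K) : Matrix (Fin 3) (Fin 3) K)).map K.subtype = _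
      rw [elem_val hij]
      ext k l
      simp [Matrix.transvection, Matrix.single_apply, vecMulVec_apply, Pi.single_apply, Matrix.one_apply,
        eq_comm]
      aesop
    convert Subgroup.mem_comap.1 hmem using 1
    exact Units.ext rfl

set_option maxHeartbeats 800000 in
/-- **A root element `E₃₂` gives `SL₃(K)`.** -/
theorem Roots.isSL_of_trig (H : Roots G K) (hD : Diag K) (ht : Trig G) : IsSL G := by
  classical
  obtain ⟨ι, hι, ht⟩ := ht
  let D : GL (Fin 3) F := ⟨diagonal ![1, 1, ι], diagonal ![1, 1, ι⁻¹],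
    by rw [diagonal_mul_diagonal, ← diagonal_one]; congr 1; funext i; fin_cases i <;> simp [hι],
    by rw [diagonal_mul_diagonal, ← diagonal_one]; congr 1; funext i; fin_cases i <;> simp [hι]⟩
  refine IsSL.of_conj (P := D) ?_
  have H' : Roots (G.map (conjHom D)) K := H.map_conj D
    (fun i hi => by
      show diagonal ![1, 1, ι] *ᵥ _ = _
      ext k; fin_cases i <;> fin_cases k <;> simp [mulVec_diagonal] at hi ⊢)
    (fun i hi a => by
      show _ ᵥ* diagonal ![1, 1, ι⁻¹] = _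
      ext k; fin_cases i <;> fin_cases k <;> simp [vecMul_diagonal] at hi ⊢)
  have t32 : T (G.map (conjHom D)) (Pi.single 2 1) (Pi.single 1 1) := by
    rw [T_conjHom]
    show T G (diagonal ![1, 1, ι] *ᵥ _) (_ ᵥ* diagonal ![1, 1, ι⁻¹])
    convert ht using 1 <;> ext k <;> fin_cases k <;> simp [mulVec_diagonal, vecMul_diagonal]
  generalize G.map (conjHom D) = G1 at H' t32
  have h31 : ∀ a ∈ K, T G1 (Pi.single 2 1) (a • (Pi.single 0 1 : V3 F)) := fun a ha => by
    have := T.comm_right (H'.root21 a ha) t32 (by simp)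
    simpa using this
  have h32 : ∀ a ∈ K, T G1 (Pi.single 2 1) (a • (Pi.single 1 1 : V3 F)) := fun a ha => by
    have := T.comm_right (H'.root12 a ha) (h31 1 K.one_mem) (by simp)
    simpa using this
  obtain ⟨e, χ, he, h, hne⟩ := H'.sys.axis (Pi.single 2 1) (by simp)
  rw [dotProduct_single, mul_one] at hne
  have o02 := H'.val_mem h31 h
  have o12 := H'.val_mem h32 h
  simp only [single_dotProduct, dotProduct_single, one_mul, mul_one] at o02 o12
  -- normalise
  obtain ⟨x, z, χ', hx, hxK, hχ2, h'⟩ : ∃ (x z : F) (χ' : V3 F), x ≠ 0 ∧ x ∈ K ∧ χ' 2 = 1 ∧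
      T G1 ![x, 0, z] χ' := by
    obtain ⟨e', χ', h0, hK0, hK1, hχ2, h'⟩ : ∃ e' χ' : V3 F,
        e' 0 ≠ 0 ∧ e' 0 ∈ K ∧ e' 1 ∈ K ∧ χ' 2 = 1 ∧ T G1 e' χ' := by
      have hr := h.rescale hne
      by_cases h0 : e 0 = 0
      · have h1 : e 1 ≠ 0 := fun h1 => he (by
          have := h.1
          rw [dotProduct, Fin.sum_univ_three, h0, h1, mul_zero, mul_zero, zero_add, zero_add] at this
          funext i
          fin_cases i
          · exact h0
          · exact h1
          · exact (mul_eq_zero.1 this).resolve_left hne)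
        refine ⟨_, _, ?_, ?_, ?_, ?_, T.move (H'.root12 1 K.one_mem) hr⟩
        · simp [h0, h1, hne]
        · simpa [h0, mul_comm] using o12
        · simpa [mul_comm] using o12
        · simp [hne]
      · refine ⟨_, _, ?_, ?_, ?_, ?_, hr⟩
        · simp [h0, hne]
        · simpa [mul_comm] using o02
        · simpa [mul_comm] using o12
        · simp [hne]
    have hmv := T.move (H'.root21 (-(e' 1 / e' 0)) (K.neg_mem (K.div_mem hK1 hK0))) h'
    refine ⟨e' 0, e' 2, χ' - (χ' ⬝ᵥ Pi.single 1 1) • (-(e' 1 / e' 0)) • (Pi.single 0 1 : V3 F),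
      h0, hK0, ?_, ?_⟩
    · simp [hχ2]
    · convert hmv using 1
      ext i; fin_cases i <;> simp [h0]
  obtain ⟨-, hB, hA⟩ := H'.entries h'
  have hA' : χ' 0 ∈ K := by
    have := K.div_mem hA hxK
    simpa [hx, mul_comm] using this
  have hB' : χ' 1 ∈ K := by
    have := K.div_mem hB hxK
    simpa [hx, mul_comm] using this
  have hz : z = -(χ' 0 * x) := by
    have := h'.1
    simp [dotProduct, Fin.sum_univ_three, hχ2] at this
    linear_combination this
  have hm := T.move (h31 (χ' 0) hA') h'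
  have hm' : T G1 (x • (Pi.single 0 1 : V3 F)) ![0, χ' 1, 1] := by
    convert hm using 1 <;> ext i <;> fin_cases i <;> simp [hχ2, hz]
  have t13 : T G1 (Pi.single 0 1) (x • (Pi.single 2 1 : V3 F)) := by
    have h1 := T.add (T.shift hm' (by simp)) (H'.root12 (-(x * χ' 1)) (K.neg_mem (K.mul_mem hxK hB')))
    convert h1 using 1
    ext i; fin_cases i <;> simp
  have h23 : ∀ a ∈ K, T G1 (Pi.single 1 1) (a • (Pi.single 2 1 : V3 F)) := fun a ha => by
    have hax : a / x ∈ K := K.div_mem ha hxK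
    have h1 := T.comm_left (H'.root21 _ hax) t13 (by simp)
    have h2 : T G1 ((a / x) • (Pi.single 1 1 : V3 F)) (x • (Pi.single 2 1 : V3 F)) := by
      convert h1 using 2; simp
    have h3 := T.shift h2 (by simp)
    rwa [smul_smul, div_mul_cancel₀ _ hx] at h3
  have h13 : ∀ a ∈ K, T G1 (Pi.single 0 1) (a • (Pi.single 2 1 : V3 F)) := fun a ha => by
    have h1 := T.comm_left (H'.root12 1 K.one_mem) (h23 a ha) (by simp)
    simpa using h1
  exact isSL_of_roots H' hD h31 h32 h13 h23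

theorem isSL_of_trig (H : Fr G K l0) (ht : Trig G) : IsSL G :=
  H.roots.isSL_of_trig (diag_of_two_ne H.two) ht

end Cfsg.Agent.Mitchell.Transv
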