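/-
Outside the linear case the trace part of a transvection lies outside `K`.
Main results:
* `trig_of_axis` : an axis through `e₃` with centre off the block gives a root element `E₃₂`
* `trig_of_mem` : so does a transvection whose corner entry lies in `K`, up to duality
* `shape` : the transvections in the unitary case
-/
import Cfsg.Agent.Lib.Mitchell.Transv.Linear

set_option autoImplicit false
set_option linter.unusedSectionVars false
set_option linter.style.haveILetI false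

namespace Cfsg.Agent.Mitchell.Transv

open Matrix Cfsg.Agent.SL3Max Cfsg.Agent.Transvect

variable {F : Type*} [Field F] [Fintype F] {G : Subgroup (GL (Fin 3) F)} {K : Subfield F} {l0 : F}

lemma orth {e χ : V3 F} (h : T G e χ) : χ 0 * e 0 + χ 1 * e 1 + χ 2 * e 2 = 0 := by
  have := h.1
  rwa [dotProduct, Fin.sum_univ_three] at this

lemma trig_of_line (H : Roots G K) {z : F} {χ : V3 F} (hz : z ≠ 0) (hχ : χ ≠ 0) (hχ2 : χ 2 = 0)
    (h : T G (Pi.single 2 z) χ) : Trig G := by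
  by_cases h0 : χ 0 = 0
  · have h1 : χ 1 ≠ 0 := fun h1 => hχ (funext fun i => by fin_cases i <;> simp [h0, h1, hχ2])
    refine ⟨χ 1 * z, mul_ne_zero h1 hz, ?_⟩
    have := T.shift' (a := χ 1) (χ := (Pi.single 1 1 : V3 F)) (e := Pi.single 2 z)
      (by convert h using 1; ext i; fin_cases i <;> simp [h0, hχ2]) (by simp)
    convert this using 1
    ext i; fin_cases i <;> simp
  · refine ⟨χ 0 * z, mul_ne_zero h0 hz, ?_⟩
    have h1 := T.comm_right (H.r12 1 K.one_mem) h (by simp)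
    rw [dotProduct_single, mul_one] at h1
    have := T.shift' h1 (by simp)
    convert this using 1
    ext i; fin_cases i <;> simp

set_option maxHeartbeats 800000 in
/-- An axis through `e₃`. -/
theorem Roots.trig_of_axis (H : Roots G K) (hH : Half K) {e χ : V3 F} (h : T G e χ) (hχ : χ ≠ 0) (hχ2 : χ 2 = 0)
    (he2 : e 2 ≠ 0) : Trig G := by
  obtain ⟨hp, hq, hD⟩ := H.entries h
  have ho := orth h
  rw [hχ2, zero_mul, add_zero] at ho
  by_cases h1 : e 1 = 0
  · by_cases h0 : e 0 = 0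
    · refine trig_of_line H he2 hχ hχ2 ?_
      convert h using 1
      ext i; fin_cases i <;> simp [h0, h1]
    · have c0 : χ 0 = 0 := by
        rw [h1, mul_zero, add_zero] at ho
        exact (mul_eq_zero.1 ho).resolve_right h0
      refine trig_of_line H he2 hχ hχ2 ?_
      have hr : T G ((-e 0) • (Pi.single 0 1 : V3 F)) χ := by
        refine T.shift' ?_ (by simp [c0])
        convert H.r12 (-(e 0 * χ 1)) (K.neg_mem hq) using 1
        ext i; fin_cases i <;> simp [c0, hχ2]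
      convert T.addL h hr using 1
      ext i; fin_cases i <;> simp [h1]
  · have c0 : χ 0 ≠ 0 := fun c0 => by
      rw [c0, zero_mul, zero_add] at ho
      exact hχ (funext fun i => by
        fin_cases i <;> simp [c0, hχ2, (mul_eq_zero.1 ho).resolve_right h1])
    have h00 : e 0 * χ 0 ∈ K := by
      refine hH _ (e 1 * χ 1) (by linear_combination ho) hD ?_
      rw [show e 0 * χ 0 * (e 1 * χ 1) = e 1 * χ 0 * (e 0 * χ 1) by ring]
      exact K.mul_mem hp hq
    have hrat : e 0 / e 1 ∈ K := by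
      rw [← mul_div_mul_right (e 0) (e 1) c0]
      exact K.div_mem h00 hp
    have hm := T.move (H.r12 (-(e 0 / e 1)) (K.neg_mem hrat)) h
    have hm' : T G ![0, e 1, e 2] ![χ 0, 0, 0] := by
      convert hm using 1
      · ext i; fin_cases i <;> simp [h1]
      · ext i; fin_cases i
        · simp
        · simp
          field_simp
          linear_combination -ho
        · simp [hχ2]
    refine trig_of_line H (χ := ![χ 0, 0, 0]) he2
      (fun h' => c0 (by simpa using congrFun h' 0)) (by simp) ?_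
    have hr : T G ((-e 1) • (Pi.single 1 1 : V3 F)) ![χ 0, 0, 0] := by
      refine T.shift' ?_ (by simp [dotProduct, Fin.sum_univ_three])
      convert H.r21 (-(e 1 * χ 0)) (K.neg_mem hp) using 1
      ext i; fin_cases i <;> simp
    convert T.addL hm' hr using 1
    ext i; fin_cases i <;> simp

theorem trig_of_axis (H : Fr G K l0) {e χ : V3 F} (h : T G e χ) (hχ : χ ≠ 0) (hχ2 : χ 2 = 0)
    (he2 : e 2 ≠ 0) : Trig G :=
  H.roots.trig_of_axis (half_of_two_ne H.two) h hχ hχ2 he2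

set_option maxHeartbeats 800000 in
/-- A diagonal entry in `K`. -/
theorem Roots.trig_of_mem (H : Roots G K) (hH : Half K) {e χ : V3 F} (h : T G e χ) (he2 : e 2 ≠ 0)
    (hχ2 : χ 2 ≠ 0) (ha : e 0 * χ 0 ∈ K) : Trig (G.map dualHom) := by
  obtain ⟨e, χ, h, he0, he2, hχ2, ha⟩ : ∃ e χ : V3 F, T G e χ ∧ e 0 ≠ 0 ∧ e 2 ≠ 0 ∧ χ 2 ≠ 0 ∧
      e 0 * χ 0 ∈ K := by
    by_cases h0 : e 0 = 0
    · have h1 : e 1 ≠ 0 := fun h1 => by
        have := orth h
        rw [h0, h1, mul_zero, mul_zero, zero_add, zero_add] at this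
        exact mul_ne_zero hχ2 he2 this
      exact ⟨_, _, T.move (H.r12 1 K.one_mem) h, by simp [h0, h1], by simp [he2], by simp [hχ2],
        by simpa [h0] using (H.entries h).1⟩
    · exact ⟨e, χ, h, h0, he2, hχ2, ha⟩
  obtain ⟨e, χ, h, he0, he1, he2, hχ2, ha⟩ : ∃ e χ : V3 F, T G e χ ∧ e 0 ≠ 0 ∧ e 1 = 0 ∧ e 2 ≠ 0 ∧
      χ 2 ≠ 0 ∧ e 0 * χ 0 ∈ K := by
    obtain ⟨hp, hq, hD⟩ := H.entries h
    have h11 : e 1 * χ 1 ∈ K := by
      rw [show e 1 * χ 1 = e 0 * χ 0 - (e 0 * χ 0 - e 1 * χ 1) by ring]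
      exact K.sub_mem ha hD
    have hrat : e 1 / e 0 ∈ K := by
      by_cases c0 : χ 0 = 0
      · have c1 : χ 1 ≠ 0 := fun c1 => by
          have := orth h
          rw [c0, c1, zero_mul, zero_mul, zero_add, zero_add] at this
          exact mul_ne_zero hχ2 he2 this
        rw [← mul_div_mul_right (e 1) (e 0) c1]
        exact K.div_mem h11 hq
      · rw [← mul_div_mul_right (e 1) (e 0) c0]
        exact K.div_mem hp ha
    refine ⟨_, _, T.move (H.r21 (-(e 1 / e 0)) (K.neg_mem hrat)) h, by simp [he0], by simp [he0],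
      by simp [he2], by simp [hχ2], ?_⟩
    have := K.add_mem ha (K.mul_mem hq hrat)
    convert this using 1
    simp
    ring
  obtain ⟨e, χ, h, he0, he1, he2, hχ1, hχ2⟩ : ∃ e χ : V3 F, T G e χ ∧ e 0 ≠ 0 ∧ e 1 = 0 ∧ e 2 ≠ 0 ∧
      χ 1 = 0 ∧ χ 2 ≠ 0 := by
    obtain ⟨-, hq, -⟩ := H.entries h
    have c0 : χ 0 ≠ 0 := fun c0 => by
      have := orth h
      rw [c0, he1, zero_mul, mul_zero, zero_add, zero_add] at this
      exact mul_ne_zero hχ2 he2 this
    have hb : χ 1 / χ 0 ∈ K := by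
      rw [← mul_div_mul_left (χ 1) (χ 0) he0]
      exact K.div_mem hq ha
    exact ⟨_, _, T.move (H.r12 (χ 1 / χ 0) hb) h, by simp [he0, he1], by simp [he1], by simp [he2],
      by simp [mul_div_cancel₀ _ c0], by simp [hχ2]⟩
  have hm := T.move h (H.r21 1 K.one_mem)
  have hm' := T_dualHom.2 hm
  refine H.map_dual.trig_of_axis hH hm' ?_ ?_ ?_
  · intro h'
    simpa [hχ1] using congrFun h' 1
  · simp [hχ1]
  · simp [he0, hχ2]

/-- A corner entry in `K`. -/
theorem trig_of_mem (H : Fr G K l0) {e χ : V3 F} (h : T G e χ) (he2 : e 2 ≠ 0) (hχ2 : χ 2 ≠ 0)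
    (hτ : e 2 * χ 2 ∈ K) : Trig (G.map dualHom) := by
  refine H.roots.trig_of_mem (half_of_two_ne H.two) h he2 hχ2 ?_
  rw [show e 0 * χ 0 = ((e 0 * χ 0 - e 1 * χ 1) - e 2 * χ 2) / 2 by
    rw [eq_div_iff H.two]; linear_combination orth h]
  exact K.div_mem (K.sub_mem (H.entries h).2.2 hτ) (by exact_mod_cast natCast_mem K 2)

/-- The shape of a transvection with conjugate diagonal entries. -/
theorem Roots.shape (H : Roots G K) (σ : F →+* F) (hσ : ∀ x, σ x = x ↔ x ∈ K) {e χ : V3 F}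
    (h : T G e χ) (he2 : e 2 ≠ 0) (hχ2 : χ 2 ≠ 0) (h00 : e 0 * χ 0 ≠ 0) (h11 : e 1 * χ 1 ≠ 0)
    (hσ00 : σ (e 0 * χ 0) = -(e 1 * χ 1)) (hσ11 : σ (-(e 1 * χ 1)) = e 0 * χ 0) :
    ∃ (ξ ι A : F), σ (σ ξ) = ξ ∧ σ ξ ≠ ξ ∧ ι ≠ 0 ∧ A ∈ K ∧ A ≠ 0 ∧ e 1 ≠ 0 ∧
      e = e 1 • ![ξ, 1, ι] ∧ e 1 • χ = A • ![1, -σ ξ, -((ξ - σ ξ) / ι)] := by
  obtain ⟨hp, -, -⟩ := H.entries h
  have ho := orth h
  obtain ⟨he0, hχ0⟩ := mul_ne_zero_iff.1 h00
  obtain ⟨he1, hχ1⟩ := mul_ne_zero_iff.1 h11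
  have hσp : σ (e 1 * χ 0) = e 1 * χ 0 := (hσ _).2 hp
  have hξ : σ (e 0 / e 1) = -(χ 1 / χ 0) := by
    rw [← mul_div_mul_right (e 0) (e 1) hχ0, map_div₀, hσ00, hσp]
    field_simp
  refine ⟨e 0 / e 1, e 2 / e 1, e 1 * χ 0, ?_, ?_, div_ne_zero he2 he1, hp, mul_ne_zero he1 hχ0, he1,
    ?_, ?_⟩
  · rw [← mul_div_mul_right (e 0) (e 1) hχ0, map_div₀, hσ00, hσp, map_div₀, hσ11, hσp]
  · intro he
    apply mul_ne_zero he2 hχ2
    have hx : e 0 * χ 0 = -(e 1 * χ 1) := by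
      rw [hξ] at he
      field_simp at he
      linear_combination -he
    linear_combination ho - hx
  · ext i; fin_cases i <;> simp [mul_div_cancel₀ _ he1]
  · rw [hξ]
    ext i; fin_cases i
    · simp
    · simp; field_simp
    · simp; field_simp; linear_combination ho

/-- The shape of a transvection off the block when `G` is not linear. -/
theorem shape (H : Fr G K l0) (σ : F →+* F) (hσ : ∀ x, σ x = x ↔ x ∈ K) {e χ : V3 F} (h : T G e χ)
    (hσ2 : σ (e 2 * χ 2) = -(e 2 * χ 2)) (he2 : e 2 ≠ 0) (hχ2 : χ 2 ≠ 0) :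
    ∃ (ξ ι A : F), σ (σ ξ) = ξ ∧ σ ξ ≠ ξ ∧ ι ≠ 0 ∧ A ∈ K ∧ A ≠ 0 ∧ e 1 ≠ 0 ∧
      e = e 1 • ![ξ, 1, ι] ∧ e 1 • χ = A • ![1, -σ ξ, -((ξ - σ ξ) / ι)] := by
  obtain ⟨-, -, hD⟩ := H.entries h
  have ho := orth h
  have h2 := H.two
  set τ := e 2 * χ 2 with hτdef
  set D := e 0 * χ 0 - e 1 * χ 1 with hDdef
  have hτ0 : τ ≠ 0 := mul_ne_zero he2 hχ2
  have hτK : τ ∉ K := fun hmem => hτ0 (by
    have := ((hσ τ).2 hmem).symm.trans hσ2
    exact (mul_eq_zero.1 (show (2 : F) * τ = 0 by linear_combination this)).resolve_left h2)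
  have s2 : σ 2 = 2 := map_ofNat σ 2
  have hσD : σ D = D := (hσ D).2 hD
  refine H.roots.shape σ hσ h he2 hχ2 ?_ ?_ ?_ ?_
  · exact fun h0 => hτK (by rw [show τ = D by linear_combination ho - 2 * h0]; exact hD)
  · exact fun h0 => hτK (by rw [show τ = -D by linear_combination ho - 2 * h0]; exact K.neg_mem hD)
  · refine mul_left_cancel₀ h2 ?_
    calc (2 : F) * σ (e 0 * χ 0) = σ (2 * (e 0 * χ 0)) := by rw [map_mul σ 2, s2]
      _ = σ (D - τ) := by congr 1; linear_combination ho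
      _ = D + τ := by rw [map_sub, hσD, hσ2]; ring
      _ = 2 * -(e 1 * χ 1) := by linear_combination ho
  · refine mul_left_cancel₀ h2 ?_
    calc (2 : F) * σ (-(e 1 * χ 1)) = σ (2 * -(e 1 * χ 1)) := by rw [map_mul σ 2, s2]
      _ = σ (D + τ) := by congr 1; linear_combination -ho
      _ = D - τ := by rw [map_add, hσD, hσ2]; ring
      _ = 2 * (e 0 * χ 0) := by linear_combination -ho

end Cfsg.Agent.Mitchell.Transv
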