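/-
The unitary case: the orbit of one transvection off the block.
Main results:
* `exists_conj` : the involution `x ↦ x ^ |K|`
* `W.orbit` : `SL₂(K)` moves one isotropic line to all
* `W.shape` : all transvections have the shape of the form
-/
import Cfsg.Agent.Lib.Mitchell.Transv.Dichotomy

set_option autoImplicit false
set_option linter.unusedSectionVars false
set_option linter.style.haveILetI false

namespace Cfsg.Agent.Mitchell.Transv

open Matrix Cfsg.Agent.SL3Max Cfsg.Agent.Transvect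

variable {F : Type*} [Field F]

lemma exists_conj [Fintype F] (K : Subfield F) :
    ∃ σ : F →+* F, (∀ x, σ x = x ^ Nat.card K) ∧ ∀ x, σ x = x ↔ x ∈ K := by
  classical
  obtain ⟨p, hchar⟩ := CharP.exists F
  haveI := Fact.mk (CharP.char_is_prime F p)
  haveI : Fintype K := Fintype.ofFinite _
  obtain ⟨m, -, hm⟩ := FiniteField.card K p
  rw [← Nat.card_eq_fintype_card] at hm
  have h1 : ∀ x, iterateFrobenius F p m x = x ^ Nat.card K := fun x => by rw [iterateFrobenius_def, hm]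
  refine ⟨iterateFrobenius F p m, h1, fun x => ?_⟩
  rw [h1]
  exact ⟨mem_of_pow_card, pow_card_of_mem⟩

/-- The axis of an isotropic vector for the form `x₀ ȳ₁ - x₁ ȳ₀ - κ x₂ ȳ₂`. -/
def S (σ : F →+* F) (κ : F) (v : V3 F) : V3 F := ![σ (v 1), -σ (v 0), -(κ * σ (v 2))]

lemma S_smul (σ : F →+* F) (κ a : F) (v : V3 F) : S σ κ (a • v) = σ a • S σ κ v := by
  ext i; fin_cases i <;> simp [S] <;> ring

/-- The root group of the line `(a, b, 1)`. -/
def W (G : Subgroup (GL (Fin 3) F)) (K : Subfield F) (σ : F →+* F) (κ a b : F) : Prop :=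
  ∀ k ∈ K, T G ![a, b, 1] (k • S σ κ ![a, b, 1])

variable [Fintype F] {G : Subgroup (GL (Fin 3) F)} {K : Subfield F} {l0 : F} {σ : F →+* F} {κ : F}

lemma W.x12 (H : Roots G K) (hσ : ∀ x, σ x = x ↔ x ∈ K) {a b s : F} (hs : s ∈ K)
    (h : W G K σ κ a b) : W G K σ κ (a + s * b) b := by
  intro k hk
  have h1 := T.move (H.r12 s hs) (h k hk)
  convert h1 using 1
  · ext i; fin_cases i <;> simp
  · ext i; fin_cases i <;> simp [S, (hσ s).2 hs] <;> ring

lemma W.x21 (H : Roots G K) (hσ : ∀ x, σ x = x ↔ x ∈ K) {a b s : F} (hs : s ∈ K)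
    (h : W G K σ κ a b) : W G K σ κ a (b + s * a) := by
  intro k hk
  have h1 := T.move (H.r21 s hs) (h k hk)
  convert h1 using 1
  · ext i; fin_cases i <;> simp
  · ext i; fin_cases i <;> simp [S, (hσ s).2 hs] <;> ring

set_option maxHeartbeats 800000 in
/-- The isotropic lines form one orbit. -/
theorem W.orbit (H : Roots G K) (hσ : ∀ x, σ x = x ↔ x ∈ K) {ξ : F} (hξξ : σ (σ ξ) = ξ)
    (hξ : σ ξ ≠ ξ) (hκ : κ = ξ - σ ξ) (h0 : W G K σ κ ξ 1) {a b : F} (ha : σ (σ a) = a)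
    (hb : σ (σ b) = b) (hab : a * σ b - σ a * b = κ) : W G K σ κ a b := by
  have hκ0 : κ ≠ 0 := by rw [hκ, sub_ne_zero]; exact Ne.symm hξ
  have hσκ : σ κ = -κ := by rw [hκ, map_sub, hξξ]; ring
  -- coordinates over `K`
  have coord : ∀ x : F, σ (σ x) = x → ∃ u v : F, u ∈ K ∧ v ∈ K ∧ x = u * ξ + v := by
    intro x hx
    have hu : (x - σ x) / κ ∈ K := (hσ _).1 (by
      rw [map_div₀, map_sub, hx, hσκ, ← neg_sub x (σ x), neg_div_neg_eq])
    refine ⟨_, x - (x - σ x) / κ * ξ, hu, (hσ _).1 ?_, by ring⟩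
    rw [map_sub, map_mul, (hσ _).2 hu]
    have e : (x - σ x) / κ * (ξ - σ ξ) = x - σ x := by rw [← hκ, div_mul_cancel₀ _ hκ0]
    linear_combination e
  have main : ∀ a b : F, σ (σ a) = a → σ (σ b) = b → a * σ b - σ a * b = κ → b - σ b ≠ 0 →
      W G K σ κ a b := by
    intro a b ha hb hab hbne
    obtain ⟨g11, g12, k11, k12, rfl⟩ := coord a ha
    obtain ⟨g21, g22, k21, k22, rfl⟩ := coord b hb
    have f11 := (hσ _).2 k11
    have f12 := (hσ _).2 k12
    have f21 := (hσ _).2 k21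
    have f22 := (hσ _).2 k22
    have hdet : g11 * g22 - g12 * g21 = 1 := by
      refine mul_right_cancel₀ hκ0 ?_
      rw [one_mul]
      conv_rhs => rw [← hab]
      rw [hκ]
      simp only [map_add, map_mul, f11, f12, f21, f22]
      ring
    have h21 : g21 ≠ 0 := fun h => hbne (by rw [h, zero_mul, zero_add, f22, sub_self])
    have hw : (g22 - 1) / g21 ∈ K := K.div_mem (K.sub_mem k22 K.one_mem) k21
    have hu : (g11 - 1) / g21 ∈ K := K.div_mem (K.sub_mem k11 K.one_mem) k21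
    have h := ((h0.x12 H hσ hw).x21 H hσ k21).x12 H hσ hu
    convert h using 1
    · field_simp
      linear_combination -hdet
    · field_simp
      ring
  by_cases hbne : b - σ b ≠ 0
  · exact main a b ha hb hab hbne
  push Not at hbne
  have hane : a - σ a ≠ 0 := fun h => hκ0 (by
    rw [← hab, ← sub_eq_zero.1 h, ← sub_eq_zero.1 hbne, sub_self])
  have h1 := main a (b + a) ha (by rw [map_add, map_add, ha, hb])
    (by rw [map_add]; linear_combination hab)
    (by rw [map_add]; intro h; exact hane (by linear_combination h - hbne))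
  have h2 := h1.x21 H hσ (s := -1) (K.neg_mem K.one_mem)
  convert h2 using 1
  ring

set_option maxHeartbeats 800000 in
/-- Every transvection off the block is isotropic for the form. -/
theorem W.shape (H : Roots G K) (hσ : ∀ x, σ x = x ↔ x ∈ K) {ξ0 : F} (hξξ0 : σ (σ ξ0) = ξ0)
    (hξ0 : σ ξ0 ≠ ξ0) (hκ : κ = ξ0 - σ ξ0) (h0 : W G K σ κ ξ0 1) {e χ : V3 F} (h : T G e χ)
    {ξ ι A : F} (hξξ : σ (σ ξ) = ξ) (hξ : σ ξ ≠ ξ) (hι : ι ≠ 0) (hA : A ∈ K) (hA0 : A ≠ 0)
    (he1 : e 1 ≠ 0) (he : e = e 1 • ![ξ, 1, ι])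
    (hχ : e 1 • χ = A • ![1, -σ ξ, -((ξ - σ ξ) / ι)]) :
    ∃ a b k : F, σ (σ a) = a ∧ σ (σ b) = b ∧ a * σ b - σ a * b = κ ∧ k ∈ K ∧
      vecMulVec e χ = k • vecMulVec ![a, b, 1] (S σ κ ![a, b, 1]) := by
  have hσκ : σ κ = -κ := by rw [hκ, map_sub, hξξ0]; ring
  set c := ξ - σ ξ with hc
  have hσc : σ c = -c := by rw [hc, map_sub, hξξ]; ring
  have hκK : κ * c ∈ K := (hσ _).1 (by rw [map_mul, hσκ, hσc, neg_mul_neg])
  -- the values against the orbit
  have hf : ∀ a b : F, W G K σ κ a b → σ (σ a) = a → σ (σ b) = b →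
      κ * ι * (a - σ ξ * b) - c / ι * σ (a - σ ξ * b) ∈ K := by
    intro a b hab ha hb
    have hv := H.val_mem hab h
    set z := a - σ ξ * b with hz
    have hσz : σ z = σ a - ξ * σ b := by rw [hz, map_sub, map_mul, hξξ]
    have hzz : z * σ z ∈ K := (hσ _).1 (by
      rw [map_mul, show σ (σ z) = z by rw [hz]; simp [ha, hb, hξξ], mul_comm])
    have e1 : (S σ κ ![a, b, 1] ⬝ᵥ e) * (χ ⬝ᵥ ![a, b, 1]) =
        A * (-(κ * ι * z - c / ι * σ z) - z * σ z + κ * c) := by
      have e0 : S σ κ ![a, b, 1] ⬝ᵥ e = e 1 * -(σ z + κ * ι) := by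
        conv_lhs => rw [he]
        rw [hσz]
        simp [S, dotProduct, Fin.sum_univ_three]
        ring
      have e2 : e 1 * (χ ⬝ᵥ ![a, b, 1]) = A * (z - c / ι) := by
        have := congrArg (fun w : V3 F => w ⬝ᵥ ![a, b, 1]) hχ
        simp only [smul_dotProduct, smul_eq_mul] at this
        rw [this, hz, hc]
        simp [dotProduct, Fin.sum_univ_three]
        left; ring
      rw [e0, show e 1 * -(σ z + κ * ι) * (χ ⬝ᵥ ![a, b, 1]) =
        -(σ z + κ * ι) * (e 1 * (χ ⬝ᵥ ![a, b, 1])) by ring, e2]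
      field_simp
      ring
    rw [e1] at hv
    have hv' := K.div_mem hv hA
    rw [mul_div_cancel_left₀ _ hA0] at hv'
    have := K.sub_mem (K.add_mem (K.neg_mem hzz) hκK) hv'
    convert this using 1
    ring
  have hW : ∀ a b, σ (σ a) = a → σ (σ b) = b → a * σ b - σ a * b = κ → W G K σ κ a b :=
    fun a b => W.orbit H hσ hξξ0 hξ0 hκ h0
  -- sample points
  have p0 := hf ξ0 1 h0 hξξ0 (by simp)
  have p1 := hf (ξ0 + 1 * 1) 1 (h0.x12 H hσ K.one_mem) (by simp [hξξ0]) (by simp)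
  have p2 := hf 1 (-ξ0) (hW _ _ (by simp) (by simp [hξξ0]) (by rw [hκ]; simp; ring)) (by simp)
    (by simp [hξξ0])
  have p3 := hf 1 (-(ξ0 + 1)) (hW _ _ (by simp) (by simp [hξξ0]) (by rw [hκ]; simp; ring)) (by simp)
    (by simp [hξξ0])
  have hk1 : κ * ι - c / ι ∈ K := by
    have := K.sub_mem p1 p0
    simp only [map_sub, map_mul, map_add, map_one, hξξ] at this
    convert this using 1
    ring
  have hk2 : κ * ι * σ ξ - c / ι * ξ ∈ K := by
    have := K.sub_mem p3 p2
    simp only [map_sub, map_mul, map_add, map_one, map_neg, hξξ] at this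
    convert this using 1
    ring
  set k1 := κ * ι - c / ι with hk1e
  set k2 := κ * ι * σ ξ - c / ι * ξ with hk2e
  have E1 : κ * ι * (σ ξ - ξ) = k2 - k1 * ξ := by rw [hk1e, hk2e]; ring
  have E2 : κ * σ ι * (σ ξ - ξ) = k2 - k1 * σ ξ := by
    have := congrArg σ E1
    simp only [map_mul, map_sub, hσκ, hξξ, (hσ _).2 hk1, (hσ _).2 hk2] at this
    linear_combination this
  have hne : σ ξ - ξ ≠ 0 := sub_ne_zero.2 hξ
  have hcι : c / ι = κ * σ ι := by
    refine mul_right_cancel₀ hne ?_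
    rw [E2, hk1e, hk2e]
    ring
  have hιι : σ (σ ι) = ι := by
    have := congrArg σ E2
    simp only [map_mul, map_sub, hσκ, hξξ, (hσ _).2 hk1, (hσ _).2 hk2] at this
    have hκ0 : κ ≠ 0 := by rw [hκ, sub_ne_zero]; exact Ne.symm hξ0
    refine mul_left_cancel₀ hκ0 (mul_right_cancel₀ hne ?_)
    linear_combination this - E1
  have hσι : σ ι ≠ 0 := (map_ne_zero σ).2 hι
  have hceq : c = κ * σ ι * ι := by rw [← hcι, div_mul_cancel₀ _ hι]
  refine ⟨ξ / ι, 1 / ι, A * (ι * σ ι), by rw [map_div₀, map_div₀, hξξ, hιι],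
    by rw [map_div₀, map_div₀, map_one, map_one, hιι], ?_, ?_, ?_⟩
  · rw [map_div₀, map_div₀, map_one]
    field_simp
    rw [hc] at hceq
    linear_combination hceq
  · refine K.mul_mem hA ((hσ _).1 ?_)
    rw [map_mul, hιι, mul_comm]
  · have hv : vecMulVec e χ = vecMulVec ![ξ, 1, ι] (e 1 • χ) := by
      conv_lhs => rw [he]
      ext i j
      fin_cases i <;> simp [vecMulVec_apply] <;> ring
    rw [hv, hχ, hcι]
    ext i j
    fin_cases i <;> fin_cases j <;> simp [vecMulVec_apply, S] <;> field_simp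

end Cfsg.Agent.Mitchell.Transv
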