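/-
The unitary case: the group is `SU₃`.
Main results:
* `exists_basis` : an orthonormal basis over `GF(|K|²)` for the form
* `isSU_of_shapes` : a group with exactly the transvections of the form is `SU₃`
-/
import Cfsg.Agent.Lib.Mitchell.Transv.Orbit
import Cfsg.Agent.Lib.Unitary.Generation

set_option autoImplicit false
set_option linter.unusedSectionVars false
set_option linter.style.haveILetI false

namespace Cfsg.Agent.Mitchell.Transv

open Matrix Cfsg.Agent.SL3Max Cfsg.Agent.Transvect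

variable {F : Type*} [Field F] [Fintype F] {G : Subgroup (GL (Fin 3) F)} {K : Subfield F} {l0 : F}
  {σ : F →+* F} {κ : F}

/-- The field of fixed points of `σ²`. -/
def quad (σ : F →+* F) : Subfield F := RingHom.eqLocusField (σ.comp σ) (RingHom.id F)

lemma mem_quad {x : F} : x ∈ quad σ ↔ σ (σ x) = x := Iff.rfl

lemma card_quad (hr : ∀ x, σ x = x ^ Nat.card K) (hσ : ∀ x, σ x = x ↔ x ∈ K)
    {θ : F} (hθ : σ (σ θ) = θ) (hθK : θ ∉ K) : Nat.card (quad σ) = Nat.card K ^ 2 := by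
  classical
  refine le_antisymm ?_ ?_
  · have h := card_le_of_pow (n := Nat.card K ^ 2) (Nat.one_lt_pow two_ne_zero (one_lt_card K))
      (s := Finset.univ.filter (· ∈ quad σ)) fun x hx => by
        have := mem_quad.1 (Finset.mem_filter.1 hx).2
        rwa [hr, hr, ← pow_mul, ← pow_two] at this
    rwa [← Fintype.card_subtype, ← Nat.card_eq_fintype_card] at h
  · rw [pow_two, ← Nat.card_prod]
    refine Nat.card_le_card_of_injective (fun u : K × K =>
      (⟨(u.1 : F) + u.2 * θ, mem_quad.2 (by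
        simp [(hσ _).2 u.1.2, (hσ _).2 u.2.2, hθ])⟩ : quad σ)) fun u v h => ?_
    have h' : (u.1 : F) + u.2 * θ = v.1 + v.2 * θ := congrArg Subtype.val h
    have h2 : (u.2 : F) = v.2 := by
      by_contra hne
      refine hθK ?_
      rw [show θ = ((v.1 : F) - u.1) / (u.2 - v.2) by
        rw [eq_div_iff (sub_ne_zero.2 hne)]; linear_combination h']
      exact K.div_mem (K.sub_mem v.1.2 u.1.2) (K.sub_mem u.2.2 v.2.2)
    exact Prod.ext (Subtype.ext (by rw [h2] at h'; exact add_right_cancel h')) (Subtype.ext h2)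

/-- A basis in which the form is the standard one. -/
theorem exists_basis (h2 : (2 : F) ≠ 0) {r : ℕ} {L : Subfield F} [Fintype L]
    (hL : Fintype.card L = r ^ 2) (hr : ∀ x, σ x = x ^ r) (hκL : κ ∈ L) (hσκ : σ κ = -κ)
    (hκ0 : κ ≠ 0) :
    ∃ P : GL (Fin 3) L, ∀ x w : V3 F,
      (κ • S σ κ ((Matrix.GeneralLinearGroup.map L.subtype P : Matrix (Fin 3) (Fin 3) F) *ᵥ w)) ⬝ᵥ
        ((Matrix.GeneralLinearGroup.map L.subtype P : Matrix (Fin 3) (Fin 3) F) *ᵥ x) =
        ∑ i, x i * σ (w i) := by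
  have s2 : σ (2 : F) = 2 := map_ofNat σ 2
  have nrm : ∀ d : F, d ∈ L → σ d = d → ∃ ν : L, (ν : F) * σ ν = d := by
    intro d hd hσd
    obtain ⟨x, hx⟩ := Unitary.exists_norm_eq hL (c := (⟨d, hd⟩ : L))
      (Subtype.ext (by push_cast; rw [← hr]; exact hσd))
    refine ⟨x, ?_⟩
    have := congrArg (fun z : L => (z : F)) hx
    rw [hr]
    push_cast at this
    rw [← this, pow_succ']
  have h2L : (2 : F) ∈ L := by exact_mod_cast natCast_mem L 2
  obtain ⟨ν1, hν1⟩ := nrm (2 * κ ^ 2)⁻¹ (L.inv_mem (L.mul_mem h2L (pow_mem hκL 2)))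
    (by rw [map_inv₀, map_mul, map_pow, hσκ, s2, neg_sq])
  obtain ⟨ν2, hν2⟩ := nrm (-(2 * κ ^ 2)⁻¹) (L.neg_mem (L.inv_mem (L.mul_mem h2L (pow_mem hκL 2))))
    (by rw [map_neg, map_inv₀, map_mul, map_pow, hσκ, s2, neg_sq])
  obtain ⟨ν3, hν3⟩ := nrm (-(κ ^ 2)⁻¹) (L.neg_mem (L.inv_mem (pow_mem hκL 2)))
    (by rw [map_neg, map_inv₀, map_pow, hσκ, neg_sq])
  have hk2 : (2 : F) * κ ^ 2 ≠ 0 := mul_ne_zero h2 (pow_ne_zero 2 hκ0)
  have n1 : (ν1 : F) ≠ 0 := fun h => inv_ne_zero hk2 (by rw [← hν1, h, zero_mul])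
  have n2 : (ν2 : F) ≠ 0 := fun h => neg_ne_zero.2 (inv_ne_zero hk2) (by rw [← hν2, h, zero_mul])
  have n3 : (ν3 : F) ≠ 0 := fun h =>
    neg_ne_zero.2 (inv_ne_zero (pow_ne_zero 2 hκ0)) (by rw [← hν3, h, zero_mul])
  let M : Matrix (Fin 3) (Fin 3) L :=
    !![ν1 * ⟨κ, hκL⟩, -(ν2 * ⟨κ, hκL⟩), 0; ν1, ν2, 0; 0, 0, ν3]
  have hM : M.det ≠ 0 := by
    intro h0
    have := congrArg (fun z : L => (z : F)) h0
    simp [M, Matrix.det_fin_three] at this
    have e : (2 : F) * κ * (ν1 * ν2 * ν3) = 0 := by linear_combination this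
    exact mul_ne_zero (mul_ne_zero h2 hκ0) (mul_ne_zero (mul_ne_zero n1 n2) n3) e
  refine ⟨Matrix.GeneralLinearGroup.mkOfDetNeZero M hM, fun x w => ?_⟩
  have hm : ((Matrix.GeneralLinearGroup.map L.subtype (Matrix.GeneralLinearGroup.mkOfDetNeZero M hM)) :
      Matrix (Fin 3) (Fin 3) F) = M.map L.subtype := rfl
  rw [hm]
  simp [M, S, dotProduct, Matrix.mulVec, Fin.sum_univ_three, map_add, map_mul, map_neg, hσκ]
  field_simp at hν1 hν2 hν3
  linear_combination (x 0 * σ (w 0)) * hν1 - (x 1 * σ (w 1)) * hν2 - (x 2 * σ (w 2)) * hν3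

set_option maxHeartbeats 800000 in
/-- `SU₃` from its transvections and a standard basis. -/
theorem Roots.isSU_of_basis (H : Roots G K) (σ : F →+* F) (hr : ∀ x, σ x = x ^ Nat.card K)
    (hσ : ∀ x, σ x = x ↔ x ∈ K) (hσκ : σ κ = -κ) (hκ0 : κ ≠ 0)
    (hL' : Nat.card (quad σ) = Nat.card K ^ 2) (hr3 : 3 ≤ Nat.card K)
    (hbasis : ∃ P : GL (Fin 3) (quad σ), ∀ x w : V3 F,
      (κ • S σ κ ((Matrix.GeneralLinearGroup.map (quad σ).subtype P : Matrix (Fin 3) (Fin 3) F) *ᵥ w)) ⬝ᵥ
        ((Matrix.GeneralLinearGroup.map (quad σ).subtype P : Matrix (Fin 3) (Fin 3) F) *ᵥ x) =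
        ∑ i, x i * σ (w i))
    (hW : ∀ a b, σ (σ a) = a → σ (σ b) = b → a * σ b - σ a * b = κ → W G K σ κ a b)
    (hshape : ∀ e χ : V3 F, T G e χ → ∃ (v : V3 F) (k : F), (∀ i, σ (σ (v i)) = v i) ∧ k ∈ K ∧
      S σ κ v ⬝ᵥ v = 0 ∧ vecMulVec e χ = k • vecMulVec v (S σ κ v)) : IsSLOrSU G := by
  classical
  set r := Nat.card K with hrdef
  have hκL : κ ∈ quad σ := mem_quad.2 (by rw [hσκ, map_neg, hσκ, neg_neg])
  set L := quad σ with hLdef
  haveI : Fintype L := Fintype.ofFinite _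
  have hL : Fintype.card L = r ^ 2 := by rw [← Nat.card_eq_fintype_card]; exact hL'
  obtain ⟨P0, hP0⟩ := hbasis
  set P : GL (Fin 3) F := Matrix.GeneralLinearGroup.map L.subtype P0 with hPdef
  have hQ : ∀ w : V3 F, (fun i => σ (w i)) ᵥ* ((P⁻¹ : GL (Fin 3) F) : Matrix (Fin 3) (Fin 3) F) =
      κ • S σ κ ((P : Matrix (Fin 3) (Fin 3) F) *ᵥ w) := by
    intro w
    funext i
    have := hP0 (((P⁻¹ : GL (Fin 3) F) : Matrix (Fin 3) (Fin 3) F) *ᵥ Pi.single i 1) w
    rw [← app_apply P (((P⁻¹ : GL (Fin 3) F) : Matrix (Fin 3) (Fin 3) F) *ᵥ Pi.single i 1),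
      ← app_apply P⁻¹, app_app_inv, dotProduct_single, mul_one] at this
    rw [this]
    simp only [app_apply]
    simp [Matrix.vecMul, dotProduct, Matrix.mulVec_single, mul_comm]
  -- the image of a unitary transvection
  have himg : ∀ (w : V3 L) (c : L) (M : Cfsg.SU 3 L r),
      ((M : Matrix.SpecialLinearGroup (Fin 3) L) : Matrix (Fin 3) (Fin 3) L) =
        Cfsg.unitaryTransvection 3 r w c →
      (embK L P M.1 : Matrix (Fin 3) (Fin 3) F) =
        1 + ((c : F) * κ) • vecMulVec ((P : Matrix (Fin 3) (Fin 3) F) *ᵥ fun i => (w i : F))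
          (S σ κ ((P : Matrix (Fin 3) (Fin 3) F) *ᵥ fun i => (w i : F))) := by
    intro w c M hM
    have e1 : (embK L P M.1 : Matrix (Fin 3) (Fin 3) F) = (P : Matrix (Fin 3) (Fin 3) F) *
        (((M : Matrix.SpecialLinearGroup (Fin 3) L) : Matrix (Fin 3) (Fin 3) L).map L.subtype) *
          ((P⁻¹ : GL (Fin 3) F) : Matrix (Fin 3) (Fin 3) F) := rfl
    have e2 : (Cfsg.unitaryTransvection 3 r w c).map L.subtype =
        1 + (c : F) • vecMulVec (fun i => (w i : F)) (fun i => σ (w i : F)) := by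
      ext i j
      simp [Cfsg.unitaryTransvection, vecMulVec_apply, hr, Matrix.one_apply]
      split <;> simp
    rw [e1, hM, e2, Matrix.mul_add, Matrix.add_mul, Matrix.mul_one, ← Units.val_mul, mul_inv_cancel,
      Units.val_one, Matrix.mul_smul, Matrix.smul_mul, Matrix.mul_vecMulVec, Matrix.vecMulVec_mul, hQ,
      vecMulVec_smul, smul_smul]
  have hherm : ∀ w : V3 L, ((Cfsg.hermForm 3 L r w w : L) : F) = κ *
      (S σ κ ((P : Matrix (Fin 3) (Fin 3) F) *ᵥ fun i => (w i : F)) ⬝ᵥ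
        ((P : Matrix (Fin 3) (Fin 3) F) *ᵥ fun i => (w i : F))) := by
    intro w
    rw [← smul_eq_mul, ← smul_dotProduct, hP0]
    simp [Cfsg.hermForm, hr, Fin.sum_univ_three]
  refine ⟨L, P, Or.inr ⟨r, by rw [Nat.card_eq_fintype_card, hL], ?_⟩⟩
  refine le_antisymm ?_ ?_
  · conv_lhs => rw [H.sys.gen]
    rw [Subgroup.closure_le]
    rintro g ⟨e, χ, h, rfl⟩
    obtain ⟨v, k, hv, hk, hiso, he⟩ := hshape e χ h
    let w : V3 L := ((P0⁻¹ : GL (Fin 3) L) : Matrix (Fin 3) (Fin 3) L) *ᵥ fun i => ⟨v i, hv i⟩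
    have hPw : (P : Matrix (Fin 3) (Fin 3) F) *ᵥ (fun i => (w i : F)) = v := by
      funext i
      have e1 := congrFun (Matrix.mulVec_mulVec (fun i => (⟨v i, hv i⟩ : L))
        (P0 : Matrix (Fin 3) (Fin 3) L) ((P0⁻¹ : GL (Fin 3) L) : Matrix (Fin 3) (Fin 3) L)) i
      rw [← Units.val_mul, mul_inv_cancel, Units.val_one, one_mulVec] at e1
      have e2 := congrArg (fun z : L => (z : F)) e1
      refine Eq.trans ?_ e2
      simp [w, hPdef, Matrix.mulVec, dotProduct]
    have hiw : Cfsg.hermForm 3 L r w w = 0 := Subtype.ext (by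
      rw [hherm, hPw, hiso, mul_zero]; rfl)
    have hc : (⟨k / κ, L.div_mem (mem_quad.2 (by rw [(hσ k).2 hk, (hσ k).2 hk])) hκL⟩ : L) +
        (⟨k / κ, L.div_mem (mem_quad.2 (by rw [(hσ k).2 hk, (hσ k).2 hk])) hκL⟩ : L) ^ r = 0 :=
      Subtype.ext (by
        push_cast
        rw [← hr, map_div₀, (hσ k).2 hk, hσκ, div_neg, add_neg_cancel])
    refine ⟨(Unitary.suTransvection hL w hiw _ hc).1, (Unitary.suTransvection hL w hiw _ hc).2,
      Units.ext ?_⟩
    rw [himg w _ (Unitary.suTransvection hL w hiw _ hc) rfl, hPw, tr_val h.1, he]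
    simp only
    rw [div_mul_cancel₀ _ hκ0]
  · rintro _ ⟨M, hM, rfl⟩
    have htop : (⊤ : Subgroup (Cfsg.SU 3 L r)) ≤
        G.comap ((embK L P).comp (Cfsg.SU 3 L r).subtype) := by
      rw [← Unitary.transvectionGroup_eq_top hL (Or.inr (Or.inl ⟨rfl, hr3⟩)),
        Unitary.transvectionGroup, Subgroup.closure_le]
      rintro A ⟨w, c, hiw, hA⟩
      show embK L P A.1 ∈ G
      have himgA := himg w c A hA
      set v := (P : Matrix (Fin 3) (Fin 3) F) *ᵥ fun i => (w i : F) with hvdef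
      by_cases hv0 : v = 0
      · have : embK L P A.1 = 1 := Units.ext (by rw [himgA, hv0]; simp)
        rw [this]; exact one_mem G
      have hw0 : w ≠ 0 := fun h0 => hv0 (by
        rw [hvdef, show (fun i => (w i : F)) = 0 from funext fun i => by simp [h0], mulVec_zero])
      have hskew : c + c ^ r = 0 := (Unitary.transvection_isometry_iff hL w hw0 hiw c).1 (by
        rw [← hA]; exact A.2)
      have hk : (c : F) * κ ∈ K := (hσ _).1 (by
        have h := congrArg (fun z : L => (z : F)) hskew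
        push_cast at h
        rw [map_mul, hσκ, hr, eq_neg_of_add_eq_zero_right h]
        ring)
      have hvL : ∀ i, σ (σ (v i)) = v i := fun i => by
        refine mem_quad.1 ?_
        rw [hvdef]
        simp only [Matrix.mulVec, dotProduct]
        refine sum_mem fun j _ => L.mul_mem ?_ (w j).2
        exact ((P0 : Matrix (Fin 3) (Fin 3) L) i j).2
      have hiso : S σ κ v ⬝ᵥ v = 0 := by
        have := hherm w
        rw [hiw, ← hvdef] at this
        exact (mul_eq_zero.1 this.symm).resolve_left hκ0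
      obtain ⟨e, χ, h, he⟩ : ∃ e χ : V3 F, T G e χ ∧
          vecMulVec e χ = ((c : F) * κ) • vecMulVec v (S σ κ v) := by
        set k := (c : F) * κ with hkdef
        have hiso' : v 0 * σ (v 1) - v 1 * σ (v 0) - κ * (v 2 * σ (v 2)) = 0 := by
          rw [← hiso]; simp [S, dotProduct, Fin.sum_univ_three]; ring
        by_cases hv2 : v 2 = 0
        · have hs : v 0 * σ (v 1) = v 1 * σ (v 0) := by
            rw [hv2] at hiso'; linear_combination hiso'
          by_cases h00 : v 0 = 0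
          · refine ⟨Pi.single 1 1, Pi.single 0 (k * (v 1 * σ (v 1))),
              H.r21 _ (K.mul_mem hk ((hσ _).1 (by rw [map_mul, hvL]; ring))), ?_⟩
            ext i j
            fin_cases i <;> fin_cases j <;> simp [vecMulVec_apply, S, hv2, h00] <;> ring
          · set t := v 1 / v 0 with htdef
            have ht : t ∈ K := (hσ _).1 (by
              rw [htdef, map_div₀, div_eq_div_iff ((map_ne_zero σ).2 h00) h00]
              linear_combination hs)
            have hn : k * (v 0 * σ (v 0)) ∈ K :=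
              K.mul_mem hk ((hσ _).1 (by rw [map_mul, hvL]; ring))
            refine ⟨_, _, T.move (H.r21 t ht) (H.r12 (-(k * (v 0 * σ (v 0)))) (K.neg_mem hn)), ?_⟩
            have hv1 : v 1 = t * v 0 := (div_mul_cancel₀ _ h00).symm
            have hσv1 : σ (v 1) = t * σ (v 0) := by rw [hv1, map_mul, (hσ t).2 ht]
            ext i j
            fin_cases i <;> fin_cases j <;> simp [vecMulVec_apply, S, hv2] <;>
              simp [hσv1, hv1, (hσ t).2 ht] <;> ring
        · have hv2' : σ (v 2) ≠ 0 := (map_ne_zero σ).2 hv2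
          have hab : v 0 / v 2 * σ (v 1 / v 2) - σ (v 0 / v 2) * (v 1 / v 2) = κ := by
            rw [map_div₀, map_div₀]
            field_simp
            linear_combination hiso'
          have hn : k * (v 2 * σ (v 2)) ∈ K :=
            K.mul_mem hk ((hσ _).1 (by rw [map_mul, hvL]; ring))
          refine ⟨_, _, hW (v 0 / v 2) (v 1 / v 2) (by rw [map_div₀, map_div₀, hvL, hvL])
            (by rw [map_div₀, map_div₀, hvL, hvL]) hab _ hn, ?_⟩
          ext i j
          fin_cases i <;> fin_cases j <;> simp [vecMulVec_apply, S, map_div₀] <;> field_simp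
      convert h.2 using 1
      refine Units.ext ?_
      rw [tr_val h.1, he, himgA]
    have hM' := htop (Subgroup.mem_top (⟨M, hM⟩ : Cfsg.SU 3 L r))
    rw [Subgroup.mem_comap] at hM'
    exact hM'

set_option maxHeartbeats 800000 in
/-- **`SU₃` from its transvections.** -/
theorem isSU_of_shapes (H : Fr G K l0) (σ : F →+* F) (hr : ∀ x, σ x = x ^ Nat.card K)
    (hσ : ∀ x, σ x = x ↔ x ∈ K) (hσκ : σ κ = -κ) (hκ0 : κ ≠ 0)
    (hW : ∀ a b, σ (σ a) = a → σ (σ b) = b → a * σ b - σ a * b = κ → W G K σ κ a b)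
    (hshape : ∀ e χ : V3 F, T G e χ → ∃ (v : V3 F) (k : F), (∀ i, σ (σ (v i)) = v i) ∧ k ∈ K ∧
      S σ κ v ⬝ᵥ v = 0 ∧ vecMulVec e χ = k • vecMulVec v (S σ κ v)) : IsSLOrSU G := by
  classical
  set r := Nat.card K with hrdef
  have h2 := H.two
  have hκK : κ ∉ K := fun h => hκ0 (by
    have := ((hσ κ).2 h).symm.trans hσκ
    exact (mul_eq_zero.1 (show (2 : F) * κ = 0 by linear_combination this)).resolve_left h2)
  have hκL : κ ∈ quad σ := mem_quad.2 (by rw [hσκ, map_neg, hσκ, neg_neg])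
  have hσσκ : σ (σ κ) = κ := mem_quad.1 hκL
  set L := quad σ with hLdef
  haveI : Fintype L := Fintype.ofFinite _
  have hL : Fintype.card L = r ^ 2 := by
    rw [← Nat.card_eq_fintype_card]
    exact card_quad hr hσ hσσκ hκK
  have hr3 : 3 ≤ r := by
    obtain ⟨p, hchar⟩ := CharP.exists F
    haveI := Fact.mk (CharP.char_is_prime F p)
    have hp : p ≠ 2 := by
      rintro rfl
      exact h2 (by exact_mod_cast CharP.cast_eq_zero F 2)
    haveI : Fintype K := Fintype.ofFinite _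
    obtain ⟨⟨m, hm0⟩, -, hm⟩ := FiniteField.card K p
    simp only [PNat.mk_coe] at hm
    have h3 : p ≤ p ^ m := Nat.le_self_pow (by omega) p
    rw [← hm, ← Nat.card_eq_fintype_card] at h3
    have := (Fact.out : p.Prime).two_le
    omega
  exact H.roots.isSU_of_basis σ hr hσ hσκ hκ0 (by rw [Nat.card_eq_fintype_card]; exact hL) hr3 (exists_basis h2 hL hr hκL hσκ hκ0) hW hshape

end Cfsg.Agent.Mitchell.Transv
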