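/-
Irreducible groups generated by transvections in dimension three.
Main results: `isSLOrSU_of_transvections`.
-/
import Cfsg.Agent.Lib.Mitchell.Transv.Unitary

set_option autoImplicit false
set_option linter.unusedSectionVars false
set_option linter.style.haveILetI false

namespace Cfsg.Agent.Mitchell

open Matrix Cfsg.Agent.SL3Max Cfsg.Agent.Transvect Transv

variable {F : Type*} [Field F] [Fintype F] {G : Subgroup (GL (Fin 3) F)}

lemma IsSLOrSU.of_conj {P : GL (Fin 3) F} (h : IsSLOrSU (G.map (Transv.conjHom P))) : IsSLOrSU G := by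
  obtain ⟨K, Q, hQ⟩ := h
  have key : embK K (P * Q) = (MulAut.conj P).toMonoidHom.comp (embK K Q) :=
    MonoidHom.ext fun M => by simp [embK_apply, mul_assoc]
  refine ⟨K, P * Q, ?_⟩
  rcases hQ with hQ | ⟨r, hr, hQ⟩
  · left
    conv_lhs => rw [← map_conjHom_map P G, hQ, Subgroup.map_map, ← key]
  · right
    refine ⟨r, hr, ?_⟩
    conv_lhs => rw [← map_conjHom_map P G, hQ, Subgroup.map_map, ← key]

lemma Transv.IsSL.isSLOrSU (h : IsSL G) : IsSLOrSU G := by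
  obtain ⟨K, P, hP⟩ := h
  exact ⟨K, P, Or.inl hP⟩

/-- Scaling the third coordinate. -/
private def dia (ι : F) (hι : ι ≠ 0) : GL (Fin 3) F :=
  ⟨diagonal ![1, 1, ι], diagonal ![1, 1, ι⁻¹],
    by rw [diagonal_mul_diagonal, ← diagonal_one]; congr 1; funext i; fin_cases i <;> simp [hι],
    by rw [diagonal_mul_diagonal, ← diagonal_one]; congr 1; funext i; fin_cases i <;> simp [hι]⟩

private lemma fr_dia {K : Subfield F} {l0 : F} (H : Fr G K l0) (ι : F) (hι : ι ≠ 0) :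
    Fr (G.map (Transv.conjHom (dia ι hι))) K l0 :=
  H.map_conj _
    (fun i hi => by
      show diagonal ![1, 1, ι] *ᵥ _ = _
      ext k; fin_cases i <;> fin_cases k <;> simp [mulVec_diagonal] at hi ⊢)
    (fun i hi a => by
      show _ ᵥ* diagonal ![1, 1, ι⁻¹] = _
      ext k; fin_cases i <;> fin_cases k <;> simp [vecMul_diagonal] at hi ⊢)

/-- The corner of a transvection is anti-fixed outside the linear case. -/
private lemma corner {K : Subfield F} {l0 : F} (H : Fr G K l0) (hno : ¬ Trig (G.map dualHom))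
    {σ : F →+* F} (hσ : ∀ x, σ x = x ↔ x ∈ K) {e χ : V3 F} (h : T G e χ) (he : e 2 ≠ 0)
    (hχ : χ 2 ≠ 0) : σ (e 2 * χ 2) = -(e 2 * χ 2) := by
  obtain ⟨hp, hq, hD⟩ := H.entries h
  have h4 : (4 : F) ∈ K := by exact_mod_cast natCast_mem K 4
  have hsq : (e 2 * χ 2) ^ 2 ∈ K := by
    rw [show (e 2 * χ 2) ^ 2 =
      (e 0 * χ 0 - e 1 * χ 1) * (e 0 * χ 0 - e 1 * χ 1) + 4 * (e 1 * χ 0) * (e 0 * χ 1) by
      linear_combination (χ 2 * e 2 - χ 0 * e 0 - χ 1 * e 1) * orth h]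
    exact K.add_mem (K.mul_mem hD hD) (K.mul_mem (K.mul_mem h4 hp) hq)
  have := (hσ _).2 hsq
  rw [map_pow] at this
  rcases eq_or_eq_neg_of_sq_eq_sq _ _ this with h1 | h1
  · exact absurd (trig_of_mem H h he hχ ((hσ _).1 h1)) hno
  · exact h1

set_option maxHeartbeats 800000 in
/-- Every transvection has the shape of the form. -/
theorem Transv.Roots.shapes {K : Subfield F} (H : Roots G K) (hH : Half K) (hno : ¬ Trig G)
    (hno' : ¬ Trig (G.map dualHom)) {σ : F →+* F} (hσ : ∀ x, σ x = x ↔ x ∈ K) {ξ0 κ : F}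
    (hξξ : σ (σ ξ0) = ξ0) (hξ : σ ξ0 ≠ ξ0) (hκ : κ = ξ0 - σ ξ0) (h0 : W G K σ κ ξ0 1)
    (hsh : ∀ e χ : V3 F, T G e χ → e 2 ≠ 0 → χ 2 ≠ 0 → ∃ (ξ ι A : F), σ (σ ξ) = ξ ∧ σ ξ ≠ ξ ∧ ι ≠ 0 ∧
      A ∈ K ∧ A ≠ 0 ∧ e 1 ≠ 0 ∧ e = e 1 • ![ξ, 1, ι] ∧
      e 1 • χ = A • ![1, -σ ξ, -((ξ - σ ξ) / ι)]) :
    ∀ e χ : V3 F, T G e χ → ∃ (v : V3 F) (k : F), (∀ i, σ (σ (v i)) = v i) ∧ k ∈ K ∧
      S σ κ v ⬝ᵥ v = 0 ∧ vecMulVec e χ = k • vecMulVec v (S σ κ v) := by
  intro e χ hT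
  by_cases hχ : χ = 0
  · exact ⟨0, 0, by simp, K.zero_mem, by simp, by rw [hχ]; simp⟩
  by_cases he : e = 0
  · exact ⟨0, 0, by simp, K.zero_mem, by simp, by rw [he]; simp⟩
  by_cases hχ2 : χ 2 = 0
  · have he2 : e 2 = 0 := by
      by_contra he2
      exact hno (H.trig_of_axis hH hT hχ hχ2 he2)
    obtain ⟨hp, hq, hD⟩ := H.entries hT
    have ho := orth hT
    rw [hχ2, zero_mul, add_zero] at ho
    by_cases h00 : e 0 = 0
    · have h1 : e 1 ≠ 0 := fun h1 => he (funext fun i => by fin_cases i <;> simp [h00, h1, he2])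
      have c1 : χ 1 = 0 := by
        rw [h00, mul_zero, zero_add] at ho
        exact (mul_eq_zero.1 ho).resolve_right h1
      refine ⟨![0, 1, 0], e 1 * χ 0, fun i => by fin_cases i <;> simp, hp,
        by simp [S, dotProduct, Fin.sum_univ_three], ?_⟩
      ext i j
      fin_cases i <;> fin_cases j <;> simp [vecMulVec_apply, S, h00, c1, hχ2, he2]
    · have c1 : χ 1 ≠ 0 := fun c1 => by
        rw [c1, zero_mul, add_zero] at ho
        exact hχ (funext fun i => by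
          fin_cases i <;> simp [c1, hχ2, (mul_eq_zero.1 ho).resolve_right h00])
      have h11 : e 1 * χ 1 ∈ K := by
        refine hH _ (e 0 * χ 0) (by linear_combination ho) ?_ ?_
        · rw [show e 1 * χ 1 - e 0 * χ 0 = -(e 0 * χ 0 - e 1 * χ 1) by ring]
          exact K.neg_mem hD
        · rw [show e 1 * χ 1 * (e 0 * χ 0) = e 1 * χ 0 * (e 0 * χ 1) by ring]
          exact K.mul_mem hp hq
      have ht : e 1 / e 0 ∈ K := by
        rw [← mul_div_mul_right (e 1) (e 0) c1]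
        exact K.div_mem h11 hq
      have hσt : σ (e 1 / e 0) = e 1 / e 0 := (hσ _).2 ht
      refine ⟨![1, e 1 / e 0, 0], -(e 0 * χ 1), fun i => ?_, K.neg_mem hq, ?_, ?_⟩
      · fin_cases i <;> simp [← map_div₀, hσt]
      · simp [S, dotProduct, Fin.sum_univ_three, ← map_div₀, hσt]
      · ext i j
        fin_cases i <;> fin_cases j <;> simp [vecMulVec_apply, S, hσt, hχ2, he2] <;> field_simp <;>
          first | linear_combination ho | linear_combination (e 1) * ho | linear_combination -ho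
  · have he2 : e 2 ≠ 0 := fun he2 =>
      hno' (H.map_dual.trig_of_axis hH (T_dualHom.2 hT) he he2 hχ2)
    obtain ⟨ξ, ι, B, b1, b2, b3, b4, b5, b6, b7, b8⟩ :=
      hsh e χ hT he2 hχ2
    obtain ⟨a, b, k, ha, hb, hab, hk, hv⟩ :=
      W.shape H hσ hξξ hξ hκ h0 hT b1 b2 b3 b4 b5 b6 b7 b8
    refine ⟨![a, b, 1], k, fun i => by fin_cases i <;> simp [ha, hb], hk, ?_, hv⟩
    simp [S, dotProduct, Fin.sum_univ_three]
    linear_combination hab

set_option maxHeartbeats 800000 in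
private lemma unitary_case {K : Subfield F} {l0 : F} (H : Fr G K l0) (hno : ¬ Trig G)
    (hno' : ¬ Trig (G.map dualHom)) {ξ0 A : F} {σ : F →+* F} (hr : ∀ x, σ x = x ^ Nat.card K)
    (hσ : ∀ x, σ x = x ↔ x ∈ K) (hA : A ∈ K) (hA0 : A ≠ 0) (hξξ : σ (σ ξ0) = ξ0) (hξ : σ ξ0 ≠ ξ0)
    (h : T G ![ξ0, 1, 1] (A • ![1, -σ ξ0, -(ξ0 - σ ξ0)])) : IsSLOrSU G := by
  set κ := ξ0 - σ ξ0 with hκ
  have hκ0 : κ ≠ 0 := sub_ne_zero.2 (Ne.symm hξ)
  have hσκ : σ κ = -κ := by rw [hκ, map_sub, hξξ]; ring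
  have hξ0 : ξ0 ≠ 0 := fun h0 => hξ (by simp [h0])
  have hfull := H.full H.root21 h (by
    simp
    exact ⟨hξ0, hA0, fun h0 => hξ0 (by rw [← hξξ]; simp [h0])⟩)
  have h0 : W G K σ κ ξ0 1 := fun k hk => by
    have := hfull (k / A) (K.div_mem hk hA)
    rw [smul_smul, div_mul_cancel₀ _ hA0] at this
    convert this using 2
    ext i; fin_cases i <;> simp [S]
  have hH := half_of_two_ne (K := K) H.two
  exact isSU_of_shapes H σ hr hσ hσκ hκ0 (fun a b => W.orbit H.roots hσ hξξ hξ hκ h0)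
    (H.roots.shapes hH hno hno' hσ hξξ hξ hκ h0 fun e χ hT he2 hχ2 =>
      shape H σ hσ hT (corner H hno' hσ hT he2 hχ2) he2 hχ2)

/-- **Irreducible groups generated by transvections in dimension three.** -/
theorem isSLOrSU_of_transvections (h2 : (2 : F) ≠ 0) (G : Subgroup (GL (Fin 3) F))
    (_hsl : G ≤ Cfsg.Geo.specialLinear (Fin 3) F) (hirr : Irred G)
    (hgen : G = Subgroup.closure (tvSet G)) : IsSLOrSU G := by
  obtain ⟨P, K, l0, H⟩ := exists_frame h2 (sys_of_irred hirr hgen)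
  refine IsSLOrSU.of_conj (P := P) ?_
  generalize G.map (Transv.conjHom P) = G' at H
  by_cases t1 : Trig G'
  · exact (isSL_of_trig H t1).isSLOrSU
  by_cases t2 : Trig (G'.map dualHom)
  · exact (IsSL.of_dual (isSL_of_trig H.map_dual t2)).isSLOrSU
  obtain ⟨σ, hr, hσ⟩ := exists_conj K
  obtain ⟨e, χ, he, h, hχ2⟩ := H.sys.axis (Pi.single 2 1) (by simp)
  rw [dotProduct_single, mul_one] at hχ2
  have he2 : e 2 ≠ 0 := fun he2 => t2 (trig_of_axis H.map_dual (T_dualHom.2 h) he he2 hχ2)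
  obtain ⟨ξ, ι, A, hξξ, hξ, hι, hA, hA0, he1, hee, hχe⟩ :=
    shape H σ hσ h (corner H t2 hσ h he2 hχ2) he2 hχ2
  refine IsSLOrSU.of_conj (P := dia ι hι) ?_
  have H1 := fr_dia H ι hι
  have h1 : T (G'.map (Transv.conjHom (dia ι hι))) ![ξ, 1, 1] (A • ![1, -σ ξ, -(ξ - σ ξ)]) := by
    rw [T_conjHom]
    show T G' (diagonal ![1, 1, ι] *ᵥ _) (_ ᵥ* diagonal ![1, 1, ι⁻¹])
    have hr' := h.rescale (inv_ne_zero he1)
    rw [inv_inv] at hr'
    convert hr' using 1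
    · conv_rhs => rw [hee]
      ext i; fin_cases i <;> simp [mulVec_diagonal, inv_mul_cancel₀ he1, ← mul_assoc]
    · rw [hχe]
      ext i; fin_cases i <;> simp [vecMul_diagonal] <;> ring
  by_cases s1 : Trig (G'.map (Transv.conjHom (dia ι hι)))
  · exact (isSL_of_trig H1 s1).isSLOrSU
  by_cases s2 : Trig ((G'.map (Transv.conjHom (dia ι hι))).map dualHom)
  · exact (IsSL.of_dual (isSL_of_trig H1.map_dual s2)).isSLOrSU
  exact unitary_case H1 s1 s2 hr hσ hA hA0 hξξ hξ h1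

end Cfsg.Agent.Mitchell
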