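/-
Normalisers of `SL₃(K)` and `SU₃` in `GL₃(F)`.
Main results: `normalizes_SL`, `normalizes_SU`.
-/
import Cfsg.Agent.Lib.Mitchell.Transv.Main

set_option autoImplicit false
set_option linter.unusedSectionVars false
set_option linter.style.haveILetI false

namespace Cfsg.Agent.Mitchell

open Matrix Cfsg.Agent.SL3Max Cfsg.Agent.Transvect

variable {F : Type*} [Field F] {K : Subfield F}

/-- The rational matrices whose conjugate by `h` is rational. -/
private def good (h : GL (Fin 3) F) (K : Subfield F) : Set (Matrix (Fin 3) (Fin 3) K) :=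
  {X | ∀ a b, ((h : Matrix (Fin 3) (Fin 3) F) * X.map K.subtype *
    ((h⁻¹ : GL (Fin 3) F) : Matrix (Fin 3) (Fin 3) F)) a b ∈ K}

private lemma good_add {h : GL (Fin 3) F} {X Y : Matrix (Fin 3) (Fin 3) K} (hX : X ∈ good h K)
    (hY : Y ∈ good h K) : X + Y ∈ good h K := fun a b => by
  rw [Matrix.map_add _ (map_add K.subtype), Matrix.mul_add, Matrix.add_mul, Matrix.add_apply]
  exact K.add_mem (hX a b) (hY a b)

private lemma good_smul {h : GL (Fin 3) F} {X : Matrix (Fin 3) (Fin 3) K} (c : K) (hX : X ∈ good h K) :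
    c • X ∈ good h K := fun a b => by
  rw [show (c • X).map K.subtype = (c : F) • X.map K.subtype from by ext i j; rfl, Matrix.mul_smul,
    Matrix.smul_mul, Matrix.smul_apply]
  exact K.mul_mem c.2 (hX a b)

private lemma good_sub {h : GL (Fin 3) F} {X Y : Matrix (Fin 3) (Fin 3) K} (hX : X ∈ good h K)
    (hY : Y ∈ good h K) : X - Y ∈ good h K := by
  rw [sub_eq_add_neg, ← neg_one_smul K Y]
  exact good_add hX (good_smul _ hY)

private lemma good_mul {h : GL (Fin 3) F} {X Y : Matrix (Fin 3) (Fin 3) K} (hX : X ∈ good h K)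
    (hY : Y ∈ good h K) : X * Y ∈ good h K := fun a b => by
  have e : (h : Matrix (Fin 3) (Fin 3) F) * (X * Y).map K.subtype *
      ((h⁻¹ : GL (Fin 3) F) : Matrix (Fin 3) (Fin 3) F) =
      ((h : Matrix (Fin 3) (Fin 3) F) * X.map K.subtype * ((h⁻¹ : GL (Fin 3) F) : Matrix (Fin 3) (Fin 3) F)) *
        ((h : Matrix (Fin 3) (Fin 3) F) * Y.map K.subtype * ((h⁻¹ : GL (Fin 3) F) : Matrix (Fin 3) (Fin 3) F)) := by
    rw [Matrix.map_mul]
    simp only [Matrix.mul_assoc]
    rw [← Matrix.mul_assoc ((h⁻¹ : GL (Fin 3) F) : Matrix (Fin 3) (Fin 3) F), ← Units.val_mul,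
      inv_mul_cancel, Units.val_one, Matrix.one_mul]
  rw [e, Matrix.mul_apply]
  exact sum_mem fun c _ => K.mul_mem (hX a c) (hY c b)

private lemma good_one (h : GL (Fin 3) F) : (1 : Matrix (Fin 3) (Fin 3) K) ∈ good h K := fun a b => by
  rw [Matrix.map_one _ (map_zero _) (map_one _), Matrix.mul_one, ← Units.val_mul, mul_inv_cancel,
    Units.val_one, Matrix.one_apply]
  split
  · exact K.one_mem
  · exact K.zero_mem

/-- A conjugation preserving all rational elementary matrices is rational up to a scalar. -/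
private lemma rational_of_good {h : GL (Fin 3) F}
    (hE : ∀ i j, Matrix.single i j (1 : K) ∈ good h K) :
    ∃ (s : Fˣ) (k : GL (Fin 3) K),
      h = GeneralLinearGroup.scalar (Fin 3) s * Matrix.GeneralLinearGroup.map K.subtype k := by
  classical
  obtain ⟨j, b, hjb⟩ : ∃ j b, ((h⁻¹ : GL (Fin 3) F) : Matrix (Fin 3) (Fin 3) F) j b ≠ 0 := by
    by_contra hno
    push Not at hno
    exact (h⁻¹).det_ne_zero (Matrix.det_eq_zero_of_row_eq_zero 0 (hno 0))
  set t := ((h⁻¹ : GL (Fin 3) F) : Matrix (Fin 3) (Fin 3) F) j b with ht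
  have hent : ∀ a i, (h : Matrix (Fin 3) (Fin 3) F) a i * t ∈ K := fun a i => by
    have := hE i j a b
    rwa [show ((h : Matrix (Fin 3) (Fin 3) F) * (Matrix.single i j (1 : K)).map K.subtype *
      ((h⁻¹ : GL (Fin 3) F) : Matrix (Fin 3) (Fin 3) F)) a b = (h : Matrix (Fin 3) (Fin 3) F) a i * t by
      rw [Matrix.map_single, map_one, Matrix.mul_assoc]
      simp [Matrix.mul_apply, Matrix.single_apply, ht, ite_and]] at this
  let M : Matrix (Fin 3) (Fin 3) K := Matrix.of fun a i => ⟨_, hent a i⟩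
  have hMmap : M.map K.subtype = t • (h : Matrix (Fin 3) (Fin 3) F) := by
    ext a i; simp [M, mul_comm]
  have hdet : M.det ≠ 0 := fun h0 => by
    have h1 := congrArg K.subtype h0
    rw [RingHom.map_det, map_zero] at h1
    rw [show K.subtype.mapMatrix M = t • (h : Matrix (Fin 3) (Fin 3) F) from hMmap, det_smul] at h1
    exact mul_ne_zero (pow_ne_zero _ hjb) h.det_ne_zero h1
  refine ⟨Units.mk0 t⁻¹ (inv_ne_zero hjb), GeneralLinearGroup.mkOfDetNeZero M hdet, Units.ext ?_⟩
  rw [Units.val_mul, GeneralLinearGroup.coe_scalar]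
  show _ = _ * M.map K.subtype
  rw [hMmap]
  ext a i
  simp [Matrix.diagonal_mul, inv_mul_cancel_left₀ hjb]

private lemma pull_back {P g : GL (Fin 3) F} {s : Fˣ} {k : GL (Fin 3) K}
    (h : P⁻¹ * g * P = GeneralLinearGroup.scalar (Fin 3) s * Matrix.GeneralLinearGroup.map K.subtype k) :
    g = GeneralLinearGroup.scalar (Fin 3) s * embGL K P k := by
  have hc : P * GeneralLinearGroup.scalar (Fin 3) s = GeneralLinearGroup.scalar (Fin 3) s * P := by
    refine Units.ext ?_
    rw [Units.val_mul, Units.val_mul, GeneralLinearGroup.coe_scalar]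
    ext i j; simp [Matrix.mul_diagonal, Matrix.diagonal_mul, mul_comm]
  calc g = P * (P⁻¹ * g * P) * P⁻¹ := by group
    _ = _ := by
      rw [h, ← mul_assoc P, hc, embGL]
      simp [mul_assoc]

/-- **The normaliser of `SL₃(K)`.** -/
theorem normalizes_SL (K : Subfield F) (P : GL (Fin 3) F) {g : GL (Fin 3) F}
    (hg : ∀ x ∈ (⊤ : Subgroup (Matrix.SpecialLinearGroup (Fin 3) K)).map (embK K P),
      g * x * g⁻¹ ∈ (⊤ : Subgroup (Matrix.SpecialLinearGroup (Fin 3) K)).map (embK K P)) :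
    ∃ (s : Fˣ) (k : GL (Fin 3) K), g = GeneralLinearGroup.scalar (Fin 3) s * embGL K P k := by
  classical
  set h := P⁻¹ * g * P with hh
  have hoff : ∀ i j : Fin 3, i ≠ j → Matrix.single i j (1 : K) ∈ good h K := by
    intro i j hij
    let T : Matrix.SpecialLinearGroup (Fin 3) K :=
      ⟨Matrix.transvection i j 1, Matrix.det_transvection_of_ne i j hij 1⟩
    obtain ⟨N, -, hN⟩ := hg _ ⟨T, trivial, rfl⟩
    have hT : (T : Matrix (Fin 3) (Fin 3) K) ∈ good h K := fun a b => by
      have e : (Matrix.SpecialLinearGroup.toGL (Matrix.SpecialLinearGroup.map K.subtype N) : GL (Fin 3) F) =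
          h * Matrix.SpecialLinearGroup.toGL (Matrix.SpecialLinearGroup.map K.subtype T) * h⁻¹ := by
        have hN' : P * Matrix.SpecialLinearGroup.toGL (Matrix.SpecialLinearGroup.map K.subtype N) * P⁻¹ =
            g * (P * Matrix.SpecialLinearGroup.toGL (Matrix.SpecialLinearGroup.map K.subtype T) * P⁻¹) * g⁻¹ := hN
        calc (Matrix.SpecialLinearGroup.toGL (Matrix.SpecialLinearGroup.map K.subtype N) : GL (Fin 3) F) =
            P⁻¹ * (P * Matrix.SpecialLinearGroup.toGL (Matrix.SpecialLinearGroup.map K.subtype N) * P⁻¹) * P := by group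
          _ = _ := by rw [hN', hh]; group
      have e' := congrArg (fun x : GL (Fin 3) F => (x : Matrix (Fin 3) (Fin 3) F) a b) e
      exact (congrArg (· ∈ K) e').mp ((N : Matrix (Fin 3) (Fin 3) K) a b).2
    have h1 := good_sub hT (good_one h)
    rwa [show (T : Matrix (Fin 3) (Fin 3) K) - 1 = Matrix.single i j 1 by
      show Matrix.transvection i j 1 - 1 = _
      rw [Matrix.transvection, add_sub_cancel_left]] at h1
  obtain ⟨s, k, hk⟩ := rational_of_good (h := h) (fun i j => by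
    by_cases hij : i = j
    · subst hij
      obtain ⟨l, hl⟩ : ∃ l, l ≠ i := exists_ne i
      have := good_mul (hoff i l (Ne.symm hl)) (hoff l i hl)
      rwa [Matrix.single_mul_single_same, one_mul] at this
    · exact hoff i j hij)
  exact ⟨s, k, pull_back hk⟩

variable [Fintype F]

set_option maxHeartbeats 800000 in
/-- **The normaliser of `SU₃`.** -/
theorem normalizes_SU (h2 : (2 : F) ≠ 0) (K : Subfield F) {r : ℕ} (hK : Nat.card K = r ^ 2)
    (P : GL (Fin 3) F) {g : GL (Fin 3) F}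
    (hg : ∀ x ∈ (Cfsg.SU 3 K r).map (embK K P), g * x * g⁻¹ ∈ (Cfsg.SU 3 K r).map (embK K P)) :
    ∃ (s : Fˣ) (k : GL (Fin 3) K), k ∈ Cfsg.GU 3 K r ∧
      g = GeneralLinearGroup.scalar (Fin 3) s * embGL K P k := by
  classical
  haveI : Fintype K := Fintype.ofFinite _
  have hL : Fintype.card K = r ^ 2 := by rw [← Nat.card_eq_fintype_card, hK]
  have h2K : (2 : K) ≠ 0 := fun h0 => h2 (by simpa [map_ofNat] using congrArg K.subtype h0)
  have hr := Unitary.two_le_q hL
  have hodd : 3 ≤ r := by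
    by_contra hlt
    obtain ⟨p, hchar⟩ := CharP.exists K
    haveI := Fact.mk (CharP.char_is_prime K p)
    obtain ⟨n, hp, hn⟩ := FiniteField.card K p
    have hr2 : r = 2 := by omega
    rw [hn, hr2] at hL
    have : p = 2 := (Nat.prime_dvd_prime_iff_eq hp Nat.prime_two).1
      (hp.dvd_of_dvd_pow (show p ∣ 2 ^ 2 from hL ▸ dvd_pow_self p n.ne_zero))
    subst this
    exact h2K (by exact_mod_cast CharP.cast_eq_zero K 2)
  obtain ⟨δ, hδ0, hδ⟩ := Unitary.exists_skew hL
  have hδ' : δ + δ ^ r = 0 := by rw [hδ, add_neg_cancel]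
  -- two norms with different squares
  obtain ⟨ν1, ν2, hν1, hν2, hν⟩ : ∃ ν1 ν2 : K, ν1 ^ (r + 1) = -1 ∧ ν2 ^ (r + 1) = -1 ∧ ν1 ^ 2 ≠ ν2 ^ 2 := by
    have hm1 : (-1 : K) ^ r = -1 := by rw [Unitary.neg_pow_q hL, one_pow]
    obtain ⟨ν1, hν1⟩ := Unitary.exists_norm_eq hL hm1
    by_contra hno
    push Not at hno
    have hsub : (Finset.univ.filter fun x : K => x ^ (r + 1) = -1) ⊆ {ν1, -ν1} := by
      intro x hx
      rcases eq_or_eq_neg_of_sq_eq_sq _ _ (hno ν1 x hν1 (Finset.mem_filter.1 hx).2).symm with h | h <;>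
        simp [h]
    have h1 := (Finset.card_le_card hsub).trans Finset.card_le_two
    have h2' := Unitary.card_norm_fibre hL hm1 (neg_ne_zero.2 one_ne_zero)
    rw [Nat.card_eq_fintype_card, Fintype.card_subtype] at h2'
    omega
  set h := P⁻¹ * g * P with hh
  -- conjugates of transvections
  have himg : ∀ M ∈ Cfsg.SU 3 K r, ∃ N ∈ Cfsg.SU 3 K r,
      ((N : Matrix (Fin 3) (Fin 3) K)).map K.subtype = (h : Matrix (Fin 3) (Fin 3) F) *
        ((M : Matrix (Fin 3) (Fin 3) K)).map K.subtype * ((h⁻¹ : GL (Fin 3) F) : Matrix (Fin 3) (Fin 3) F) := by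
    intro M hM
    obtain ⟨N, hN, hNe⟩ := hg _ ⟨M, hM, rfl⟩
    refine ⟨N, hN, ?_⟩
    have hN' : P * Matrix.SpecialLinearGroup.toGL (Matrix.SpecialLinearGroup.map K.subtype N) * P⁻¹ =
        g * (P * Matrix.SpecialLinearGroup.toGL (Matrix.SpecialLinearGroup.map K.subtype M) * P⁻¹) * g⁻¹ := hNe
    have e : (Matrix.SpecialLinearGroup.toGL (Matrix.SpecialLinearGroup.map K.subtype N) : GL (Fin 3) F) =
        h * Matrix.SpecialLinearGroup.toGL (Matrix.SpecialLinearGroup.map K.subtype M) * h⁻¹ := by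
      calc (Matrix.SpecialLinearGroup.toGL (Matrix.SpecialLinearGroup.map K.subtype N) : GL (Fin 3) F) =
          P⁻¹ * (P * Matrix.SpecialLinearGroup.toGL (Matrix.SpecialLinearGroup.map K.subtype N) * P⁻¹) * P := by group
        _ = _ := by rw [hN', hh]; group
    exact congrArg (fun x : GL (Fin 3) F => (x : Matrix (Fin 3) (Fin 3) F)) e
  have hrk : ∀ w : V3 K, Cfsg.hermForm 3 K r w w = 0 →
      vecMulVec w (fun i => w i ^ r) ∈ good h K := by
    intro w hw
    obtain ⟨N, -, hNe⟩ := himg _ (Unitary.suTransvection hL w hw δ hδ').2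
    have hT : Cfsg.unitaryTransvection 3 r w δ ∈ good h K := fun a b => by
      show ((h : Matrix (Fin 3) (Fin 3) F) *
        (((Unitary.suTransvection hL w hw δ hδ').1 : Matrix (Fin 3) (Fin 3) K)).map K.subtype *
        ((h⁻¹ : GL (Fin 3) F) : Matrix (Fin 3) (Fin 3) F)) a b ∈ K
      rw [← hNe]
      exact ((N : Matrix (Fin 3) (Fin 3) K) a b).2
    have h1 := good_smul δ⁻¹ (good_sub hT (good_one h))
    rwa [show δ⁻¹ • (Cfsg.unitaryTransvection 3 r w δ - 1) = vecMulVec w (fun i => w i ^ r) by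
      rw [Cfsg.unitaryTransvection, add_sub_cancel_left, smul_smul, inv_mul_cancel₀ hδ0, one_smul]] at h1
  have hν0 : ∀ ν : K, ν ^ (r + 1) = -1 → ν ≠ 0 := fun ν hν h0 => by
    rw [h0, zero_pow (Nat.succ_ne_zero r)] at hν
    exact neg_ne_zero.2 one_ne_zero hν.symm
  have hiso : ∀ (i j : Fin 3), i ≠ j → ∀ ν : K, ν ^ (r + 1) = -1 →
      Cfsg.hermForm 3 K r (Pi.single i 1 + Pi.single j ν) (Pi.single i 1 + Pi.single j ν) = 0 := by
    intro i j hij ν hν
    have hν' : ν * ν ^ r = -1 := by rw [← pow_succ', hν]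
    rw [Cfsg.hermForm, Fin.sum_univ_three]
    fin_cases i <;> fin_cases j <;> simp [zero_pow (show r ≠ 0 by omega)] at hij ⊢ <;>
      linear_combination hν'
  have hneg : ∀ ν : K, ν ^ (r + 1) = -1 → (-ν) ^ (r + 1) = -1 := fun ν hν => by
    rw [pow_succ', Unitary.neg_pow_q hL, neg_mul_neg, ← pow_succ', hν]
  have hpair : ∀ (i j : Fin 3), i ≠ j → Matrix.single j i (1 : K) ∈ good h K := by
    intro i j hij
    -- the antisymmetric part of two opposite vectors
    have hanti : ∀ ν : K, ν ^ (r + 1) = -1 →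
        ν • Matrix.single j i (1 : K) - ν⁻¹ • Matrix.single i j (1 : K) ∈ good h K := by
      intro ν hν
      have hνr : ν ^ r = -ν⁻¹ := by
        have h0 := hν0 ν hν
        refine mul_left_cancel₀ h0 ?_
        rw [← pow_succ', hν, mul_neg, mul_inv_cancel₀ h0]
      have h1 := good_smul (2 : K)⁻¹ (good_sub (hrk _ (hiso i j hij ν hν)) (hrk _ (hiso i j hij (-ν) (hneg ν hν))))
      convert h1 using 1
      have hn : (-ν) ^ r = ν⁻¹ := by rw [Unitary.neg_pow_q hL, hνr, neg_neg]
      have h0 := hν0 ν hν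
      refine Matrix.ext fun a b => ?_
      fin_cases i <;> fin_cases j <;> fin_cases a <;> fin_cases b <;>
        simp [Matrix.single_apply, vecMulVec_apply, zero_pow (show r ≠ 0 by omega), hνr, hn] at hij ⊢ <;>
        field_simp <;> ring
    have h1 := good_sub (good_smul ν1 (hanti ν1 hν1)) (good_smul ν2 (hanti ν2 hν2))
    have h2' := good_smul (ν1 ^ 2 - ν2 ^ 2)⁻¹ h1
    convert h2' using 1
    have n1 := hν0 ν1 hν1
    have n2 := hν0 ν2 hν2
    rw [show ν1 • (ν1 • Matrix.single j i (1 : K) - ν1⁻¹ • Matrix.single i j 1) -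
      ν2 • (ν2 • Matrix.single j i (1 : K) - ν2⁻¹ • Matrix.single i j 1) =
      (ν1 ^ 2 - ν2 ^ 2) • Matrix.single j i (1 : K) by
        rw [smul_sub, smul_sub, smul_smul, smul_smul, smul_smul, smul_smul, mul_inv_cancel₀ n1,
          mul_inv_cancel₀ n2, sub_smul, pow_two, pow_two]
        abel, smul_smul, inv_mul_cancel₀ (sub_ne_zero.2 hν), one_smul]
  obtain ⟨s, k0, hk0⟩ := rational_of_good (h := h) (fun i j => by
    by_cases hij : i = j
    · subst hij
      obtain ⟨l, hl⟩ : ∃ l, l ≠ i := exists_ne i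
      have := good_mul (hpair l i hl) (hpair i l (Ne.symm hl))
      rwa [Matrix.single_mul_single_same, one_mul] at this
    · exact hpair j i (Ne.symm hij))
  -- the rational part preserves isotropy
  set A := (k0 : Matrix (Fin 3) (Fin 3) K) with hA
  have hkiso : ∀ w : V3 K, Cfsg.hermForm 3 K r w w = 0 → Cfsg.hermForm 3 K r (A *ᵥ w) (A *ᵥ w) = 0 := by
    intro w hw
    by_cases hw0 : w = 0
    · rw [hw0, mulVec_zero]; simp [Cfsg.hermForm]
    obtain ⟨N, hN, hNe⟩ := himg _ (Unitary.suTransvection hL w hw δ hδ').2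
    have hNM : (N : Matrix (Fin 3) (Fin 3) K) =
        A * Cfsg.unitaryTransvection 3 r w δ * ((k0⁻¹ : GL (Fin 3) K) : Matrix (Fin 3) (Fin 3) K) := by
      refine Matrix.map_injective K.subtype.injective ?_
      simp only [hNe]
      have hh1 : (h : Matrix (Fin 3) (Fin 3) F) = (s : F) • A.map K.subtype := by
        rw [hk0, Units.val_mul, GeneralLinearGroup.coe_scalar]
        ext a b
        simp [Matrix.diagonal_mul, hA]
      have hh2 : ((h⁻¹ : GL (Fin 3) F) : Matrix (Fin 3) (Fin 3) F) =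
          ((s : F)⁻¹) • ((k0⁻¹ : GL (Fin 3) K) : Matrix (Fin 3) (Fin 3) K).map K.subtype := by
        rw [hk0, _root_.mul_inv_rev, ← map_inv, ← map_inv, Units.val_mul, GeneralLinearGroup.coe_scalar,
          Units.val_inv_eq_inv_val]
        ext a b
        simp only [Matrix.scalar_apply, Matrix.mul_diagonal, Matrix.smul_apply, smul_eq_mul]
        rw [mul_comm]
        rfl
      rw [hh1, hh2, Matrix.map_mul, Matrix.map_mul, Matrix.smul_mul, Matrix.mul_smul, Matrix.smul_mul,
        smul_smul, inv_mul_cancel₀ s.ne_zero, one_smul]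
      rfl
    set e := A *ᵥ w with he
    set χ := (δ • fun i => w i ^ r) ᵥ* ((k0⁻¹ : GL (Fin 3) K) : Matrix (Fin 3) (Fin 3) K) with hχ
    have hN1 : (N : Matrix (Fin 3) (Fin 3) K) = 1 + vecMulVec e χ := by
      rw [hNM, Cfsg.unitaryTransvection, Matrix.mul_add, Matrix.add_mul, Matrix.mul_one, hA,
        ← Units.val_mul, mul_inv_cancel, Units.val_one, ← vecMulVec_smul, Matrix.mul_vecMulVec,
        Matrix.vecMulVec_mul]
    have hχe : χ ⬝ᵥ e = 0 := by
      rw [hχ, he, ← dotProduct_mulVec, mulVec_mulVec, hA, ← Units.val_mul, inv_mul_cancel,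
        Units.val_one, one_mulVec, smul_dotProduct]
      have : (fun i => w i ^ r) ⬝ᵥ w = Cfsg.hermForm 3 K r w w := by
        simp [Cfsg.hermForm, dotProduct, mul_comm]
      rw [this, hw, smul_zero]
    have hχ0 : χ ≠ 0 := by
      intro h0
      obtain ⟨i, hi⟩ := Function.ne_iff.1 hw0
      have := congrArg (fun x => (x ᵥ* A) i) h0
      simp only [hχ, hA, vecMul_vecMul, ← Units.val_mul, inv_mul_cancel, Units.val_one, vecMul_one,
        zero_vecMul, Pi.smul_apply, Pi.zero_apply, smul_eq_mul, mul_eq_zero] at this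
      exact this.elim hδ0 fun h => hi ((pow_eq_zero_iff (by omega)).1 h)
    obtain ⟨i, hi⟩ := Function.ne_iff.1 hχ0
    have H := Unitary.hermForm_isHerm hL 3
    have e1 := (Unitary.mem_SU_iff N).1 hN e (Pi.single i 1)
    rw [hN1, Matrix.add_mulVec, Matrix.add_mulVec, one_mulVec, one_mulVec, vecMulVec_mulVec,
      vecMulVec_mulVec, hχe, MulOpposite.op_zero, zero_smul, add_zero, op_smul_eq_smul,
      H.add_right hL, add_eq_left, H.smul_right, dotProduct_single, mul_one] at e1
    exact (mul_eq_zero.1 e1).resolve_left (pow_ne_zero _ hi)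
  -- the Gram matrix
  let M : Fin 3 → Fin 3 → K := fun i j =>
    Cfsg.hermForm 3 K r (A *ᵥ Pi.single i 1) (A *ᵥ Pi.single j 1)
  have H := Unitary.hermForm_isHerm hL 3
  have hM : ∀ i j : Fin 3, i ≠ j → M i i = M j j ∧ M i j = 0 := by
    intro i j hij
    have key : ∀ ν : K, ν ^ (r + 1) = -1 → ν * (M i i - M j j) + ν ^ 2 * M j i - M i j = 0 := by
      intro ν hν
      have h0 := hν0 ν hν
      have hνr : ν ^ r * ν = -1 := by rw [← pow_succ, hν]
      have := hkiso _ (hiso i j hij ν hν)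
      rw [mulVec_add, show (Pi.single j ν : V3 K) = ν • Pi.single j (1 : K) by
        ext a; fin_cases j <;> fin_cases a <;> simp, mulVec_smul, H.add_left, H.add_right hL, H.add_right hL,
        H.smul_left, H.smul_left, H.smul_right, H.smul_right] at this
      change M i i + ν ^ r * M i j + (ν * M j i + ν * (ν ^ r * M j j)) = 0 at this
      linear_combination ν * this - (M i j + ν * M j j) * hνr
    have hd : M i i = M j j := by
      have e1 := key ν1 hν1
      have e2 := key (-ν1) (hneg ν1 hν1)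
      have : (2 : K) * (ν1 * (M i i - M j j)) = 0 := by linear_combination e1 - e2
      exact sub_eq_zero.1 ((mul_eq_zero.1 ((mul_eq_zero.1 this).resolve_left h2K)).resolve_left (hν0 ν1 hν1))
    refine ⟨hd, ?_⟩
    have e1 := key ν1 hν1
    have e2 := key ν2 hν2
    rw [hd, sub_self, mul_zero, zero_add] at e1 e2
    have : M j i = 0 := (mul_eq_zero.1 (show (ν1 ^ 2 - ν2 ^ 2) * M j i = 0 by linear_combination e1 - e2)).resolve_left
      (sub_ne_zero.2 hν)
    rw [this, mul_zero, zero_sub, neg_eq_zero] at e1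
    exact e1
  set μ := M 0 0 with hμ
  have hexp : ∀ u v : V3 K, Cfsg.hermForm 3 K r (A *ᵥ u) (A *ᵥ v) = μ * Cfsg.hermForm 3 K r u v := by
    intro u v
    have hsum : ∀ x : V3 K, A *ᵥ x = ∑ i, x i • (A *ᵥ Pi.single i 1) := fun x => by
      ext a; simp [Matrix.mulVec, dotProduct, Fin.sum_univ_three, mul_comm]
    rw [hsum u, hsum v, H.sum_left]
    simp only [H.sum_right hL, H.smul_left, H.smul_right]
    show ∑ i, ∑ j, u i * (v j ^ r * M i j) = _
    simp [Fin.sum_univ_three, Cfsg.hermForm, (hM 0 1 (by decide)).2, (hM 0 2 (by decide)).2,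
      (hM 1 0 (by decide)).2, (hM 1 2 (by decide)).2, (hM 2 0 (by decide)).2, (hM 2 1 (by decide)).2,
      ← (hM 0 1 (by decide)).1, ← (hM 0 2 (by decide)).1, ← hμ]
    ring
  have hμfix : μ ^ r = μ := H.self_fixed _
  have hμ0 : μ ≠ 0 := by
    intro h0
    have h1 := hexp (((k0⁻¹ : GL (Fin 3) K) : Matrix (Fin 3) (Fin 3) K) *ᵥ Pi.single 0 1)
      (((k0⁻¹ : GL (Fin 3) K) : Matrix (Fin 3) (Fin 3) K) *ᵥ Pi.single 0 1)
    rw [h0, zero_mul, mulVec_mulVec, hA, ← Units.val_mul, mul_inv_cancel, Units.val_one, one_mulVec] at h1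
    simp [Cfsg.hermForm, Fin.sum_univ_three, zero_pow (show r ≠ 0 by omega)] at h1
  obtain ⟨x, hx⟩ := Unitary.exists_norm_eq hL hμfix
  have hx0 : x ≠ 0 := fun h0 => hμ0 (by rw [← hx, h0, zero_pow (Nat.succ_ne_zero r)])
  let u : Kˣ := Units.mk0 x hx0
  refine ⟨s * Units.map K.subtype.toMonoidHom u, GeneralLinearGroup.scalar (Fin 3) u⁻¹ * k0, ?_, ?_⟩
  · intro v w
    show Cfsg.hermForm 3 K r ((((GeneralLinearGroup.scalar (Fin 3) u⁻¹ * k0) : GL (Fin 3) K) :
      Matrix (Fin 3) (Fin 3) K) *ᵥ v) ((((GeneralLinearGroup.scalar (Fin 3) u⁻¹ * k0) : GL (Fin 3) K) :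
      Matrix (Fin 3) (Fin 3) K) *ᵥ w) = _
    have hsc : ∀ z : V3 K, (((GeneralLinearGroup.scalar (Fin 3) u⁻¹ * k0) : GL (Fin 3) K) :
        Matrix (Fin 3) (Fin 3) K) *ᵥ z = x⁻¹ • (A *ᵥ z) := fun z => by
      rw [Units.val_mul, GeneralLinearGroup.coe_scalar, ← mulVec_mulVec]
      ext a; simp [Matrix.mulVec_diagonal, u, hA]
    rw [hsc, hsc, H.smul_left, H.smul_right, hexp, inv_pow, ← hx, pow_succ]
    field_simp
  · refine pull_back (hk0.trans ?_)
    refine Units.ext ?_
    have hs : ((Matrix.GeneralLinearGroup.map K.subtype (GeneralLinearGroup.scalar (Fin 3) u⁻¹)) :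
        Matrix (Fin 3) (Fin 3) F) = diagonal fun _ => (x : F)⁻¹ := by
      show ((GeneralLinearGroup.scalar (Fin 3) u⁻¹ : GL (Fin 3) K) : Matrix (Fin 3) (Fin 3) K).map K.subtype = _
      rw [GeneralLinearGroup.coe_scalar, Units.val_inv_eq_inv_val, Matrix.scalar_apply,
        Matrix.diagonal_map (map_zero _)]
      simp [u]
    rw [map_mul, Units.val_mul, Units.val_mul, Units.val_mul, map_mul, Units.val_mul, hs, GeneralLinearGroup.coe_scalar,
      GeneralLinearGroup.coe_scalar, Matrix.scalar_apply, Matrix.scalar_apply, ← Matrix.mul_assoc,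
      Matrix.diagonal_mul_diagonal]
    have hxF : (x : F) ≠ 0 := fun h0 => hx0 (Subtype.ext h0)
    simp [u, hxF, Matrix.diagonal_mul_diagonal]

end Cfsg.Agent.Mitchell
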